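import Cfsg.Agent.H56.Inv.E8Data.Rank4Cols

/-!
The rank certificate of representative 4 for `E8` is valid.
-/
set_option autoImplicit false
set_option maxRecDepth 100000

namespace Cfsg.Agent.H56.Inv.E8

open Cfsg.Lie Cfsg.Agent

theorem rank4_coef : decide (rank4.coef.map (xorSel rank4.basis) = rank4.cols) = true := by
  decide +kernel

theorem rank4_ok : rank4.check chevE8 [226, 220, 213, 216] = true := by
  have h1 : (([226, 220, 213, 216] : List ℕ).all fun r => decide (r < chevE8.nroots)) = true := by decide +kernel
  have h2 : decide (rank4.piv.length = rank4.basis.length) = true := by decide +kernel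
  have h3 : ((rank4.basis.zip rank4.piv).all fun p =>
      p.1.testBit p.2 && decide (p.2 < chevE8.rank + chevE8.nroots)) = true := by decide +kernel
  have h4 : ((List.range rank4.basis.length).all fun j =>
      (rank4.piv.drop (j + 1)).all fun p => !((rank4.basis.getD j 0).testBit p)) = true := by
    decide +kernel
  unfold RankCert.check
  rw [h1, rank4_cols, rank4_sel, rank4_coef, h2, h3, h4]
  rfl

end Cfsg.Agent.H56.Inv.E8
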