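import Cfsg.Agent.H56.Inv.Walk
import Cfsg.Agent.H37.Chev.All

/-!
The simple roots of `E8` in characteristic two.
-/
set_option autoImplicit false
set_option maxRecDepth 100000

namespace Cfsg.Agent.H56.Inv.E8

open Cfsg.Lie Cfsg.Agent

theorem simple0_ok :
    simpleOk chevE8 (Chevalley.E8.tab.cf chevE8) 0 = true := by decide +kernel

theorem simple1_ok :
    simpleOk chevE8 (Chevalley.E8.tab.cf chevE8) 1 = true := by decide +kernel

theorem simple2_ok :
    simpleOk chevE8 (Chevalley.E8.tab.cf chevE8) 2 = true := by decide +kernel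

theorem simple3_ok :
    simpleOk chevE8 (Chevalley.E8.tab.cf chevE8) 3 = true := by decide +kernel

theorem simple4_ok :
    simpleOk chevE8 (Chevalley.E8.tab.cf chevE8) 4 = true := by decide +kernel

theorem simple5_ok :
    simpleOk chevE8 (Chevalley.E8.tab.cf chevE8) 5 = true := by decide +kernel

theorem simple6_ok :
    simpleOk chevE8 (Chevalley.E8.tab.cf chevE8) 6 = true := by decide +kernel

theorem simple7_ok :
    simpleOk chevE8 (Chevalley.E8.tab.cf chevE8) 7 = true := by decide +kernel

theorem simples_ok : ((List.range chevE8.rank).all fun i =>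
    simpleOk chevE8 (Chevalley.E8.tab.cf chevE8) i) = true := by
  rw [show List.range chevE8.rank = [0, 1, 2, 3, 4, 5, 6, 7] by decide +kernel]
  simp only [List.all_cons, List.all_nil, Bool.and_true, Bool.and_self,
    simple0_ok, simple1_ok, simple2_ok, simple3_ok, simple4_ok, simple5_ok, simple6_ok, simple7_ok]

theorem sl (F : Type*) [Field F] : SL (H37.Chev.dataE8 F) := SL.of_simple simples_ok

end Cfsg.Agent.H56.Inv.E8
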