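import Cfsg.Agent.H56.Inv.Walk
import Cfsg.Agent.H37.Chev.All

/-!
The walk and the frame of `E8` in characteristic two.
-/
set_option autoImplicit false
set_option maxRecDepth 100000

namespace Cfsg.Agent.H56.Inv.E8

open Cfsg.Lie Cfsg.Agent

/-- The representatives. -/
def reps : List (List ℕ) := [[], [239], [232, 233], [228, 222, 218], [226, 220, 213, 216]]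

/-- The frame. -/
def frameRoots : List ℕ := [121, 126, 141, 199, 201, 208, 211, 209, 202, 212, 239]

/-- The steps from representative 0. -/
def steps0 : List (ℕ × List ℕ × Option ℕ) :=
  [(0, [7, 6, 5, 4, 3, 2, 1, 3, 4, 5, 6, 0, 2, 3, 4, 5, 1, 3, 4, 2, 3, 0, 2, 1, 3, 4, 5, 6, 7, 6,
      5, 4, 3, 2, 1, 3, 4, 5, 6, 0, 2, 3, 4, 5, 1, 3, 4, 2, 3, 0, 2, 1, 3, 4, 5, 6, 7], some 1),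
   (1, [7, 6, 5, 4, 3, 2, 1, 3, 4, 5, 6, 0, 2, 3, 4, 5, 1, 3, 4, 2, 3, 0, 2, 1, 3, 4, 5, 6, 7, 6,
      5, 4, 3, 2, 1, 3, 4, 5, 6, 0, 2, 3, 4, 5, 1, 3, 4, 2, 3, 0, 2, 1, 3, 4, 5, 6], some 1),
   (2, [7, 6, 5, 4, 3, 2, 1, 3, 4, 5, 6, 0, 2, 3, 4, 5, 1, 3, 4, 2, 3, 0, 2, 1, 3, 4, 5, 6, 7, 6,
      5, 4, 3, 2, 1, 3, 4, 5, 6, 0, 2, 3, 4, 5, 1, 3, 4, 2, 3, 0, 2, 1, 3, 4, 5], some 1),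
   (3, [7, 6, 5, 4, 3, 2, 1, 3, 4, 5, 6, 0, 2, 3, 4, 5, 1, 3, 4, 2, 3, 0, 2, 1, 3, 4, 5, 6, 7, 6,
      5, 4, 3, 2, 1, 3, 4, 5, 6, 0, 2, 3, 4, 5, 1, 3, 4, 2, 3, 0, 2, 1, 3, 4], some 1),
   (4, [7, 6, 5, 4, 3, 2, 1, 3, 4, 5, 6, 0, 2, 3, 4, 5, 1, 3, 4, 2, 3, 0, 2, 1, 3, 4, 5, 6, 7, 6,
      5, 4, 3, 2, 1, 3, 4, 5, 6, 0, 2, 3, 4, 5, 1, 3, 4, 2, 3, 0, 2, 1, 3], some 1),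
   (5, [7, 6, 5, 4, 3, 2, 1, 3, 4, 5, 6, 0, 2, 3, 4, 5, 1, 3, 4, 2, 3, 0, 2, 1, 3, 4, 5, 6, 7, 6,
      5, 4, 3, 2, 1, 3, 4, 5, 6, 0, 2, 3, 4, 5, 1, 3, 4, 2, 3, 0, 2, 1], some 1),
   (6, [7, 6, 5, 4, 3, 2, 1, 3, 4, 5, 6, 0, 2, 3, 4, 5, 1, 3, 4, 2, 3, 0, 2, 1, 3, 4, 5, 6, 7, 6,
      5, 4, 3, 2, 1, 3, 4, 5, 6, 0, 2, 3, 4, 5, 1, 3, 4, 2, 3, 1, 0], some 1),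
   (7, [7, 6, 5, 4, 3, 2, 1, 3, 4, 5, 6, 0, 2, 3, 4, 5, 1, 3, 4, 2, 3, 0, 2, 1, 3, 4, 5, 6, 7, 6,
      5, 4, 3, 2, 1, 3, 4, 5, 6, 0, 2, 3, 4, 5, 1, 3, 4, 2, 3, 0, 2], some 1),
   (8, [7, 6, 5, 4, 3, 2, 1, 3, 4, 5, 6, 0, 2, 3, 4, 5, 1, 3, 4, 2, 3, 0, 2, 1, 3, 4, 5, 6, 7, 6,
      5, 4, 3, 2, 1, 3, 4, 5, 6, 0, 2, 3, 4, 5, 1, 3, 4, 2, 3, 0], some 1),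
   (9, [7, 6, 5, 4, 3, 2, 1, 3, 4, 5, 6, 0, 2, 3, 4, 5, 1, 3, 4, 2, 3, 0, 2, 1, 3, 4, 5, 6, 7, 6,
      5, 4, 3, 2, 1, 3, 4, 5, 6, 0, 2, 3, 4, 5, 1, 3, 4, 2, 0], some 1),
   (10, [7, 6, 5, 4, 3, 2, 1, 3, 4, 5, 6, 0, 2, 3, 4, 5, 1, 3, 4, 2, 3, 0, 2, 1, 3, 4, 5, 6, 7, 6,
      5, 4, 3, 2, 1, 3, 4, 5, 6, 0, 2, 3, 4, 5, 1, 3, 2, 0], some 1),
   (11, [7, 6, 5, 4, 3, 2, 1, 3, 4, 5, 6, 0, 2, 3, 4, 5, 1, 3, 4, 2, 3, 0, 2, 1, 3, 4, 5, 6, 7, 6,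
      5, 4, 3, 2, 1, 3, 4, 5, 6, 0, 2, 3, 4, 1, 3, 2, 0], some 1),
   (12, [7, 6, 5, 4, 3, 2, 1, 3, 4, 5, 6, 0, 2, 3, 4, 5, 1, 3, 4, 2, 3, 0, 2, 1, 3, 4, 5, 6, 7, 6,
      5, 4, 3, 2, 1, 3, 4, 5, 0, 2, 3, 4, 1, 3, 2, 0], some 1),
   (13, [7, 6, 5, 4, 3, 2, 1, 3, 4, 5, 6, 7, 0, 2, 3, 4, 5, 1, 3, 4, 2, 3, 0, 2, 1, 3, 4, 5, 6, 5,
      4, 3, 2, 1, 3, 4, 5, 0, 2, 3, 4, 1, 3, 2, 0], some 1),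
   (14, [7, 6, 5, 4, 3, 2, 1, 3, 4, 5, 6, 0, 2, 3, 4, 5, 1, 3, 4, 2, 3, 0, 2, 1, 3, 4, 5, 6, 7, 6,
      5, 4, 3, 2, 1, 3, 4, 5, 6, 0, 2, 3, 4, 5, 1, 3, 4, 2, 3, 1], some 1),
   (15, [7, 6, 5, 4, 3, 2, 1, 3, 4, 5, 6, 0, 2, 3, 4, 5, 1, 3, 4, 2, 3, 0, 2, 1, 3, 4, 5, 6, 7, 6,
      5, 4, 3, 2, 1, 3, 4, 5, 6, 0, 2, 3, 4, 5, 1, 3, 4, 2, 3], some 1),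
   (16, [7, 6, 5, 4, 3, 2, 1, 3, 4, 5, 6, 0, 2, 3, 4, 5, 1, 3, 4, 2, 3, 0, 2, 1, 3, 4, 5, 6, 7, 6,
      5, 4, 3, 2, 1, 3, 4, 5, 6, 0, 2, 3, 4, 5, 1, 3, 4, 2], some 1),
   (17, [7, 6, 5, 4, 3, 2, 1, 3, 4, 5, 6, 0, 2, 3, 4, 5, 1, 3, 4, 2, 3, 0, 2, 1, 3, 4, 5, 6, 7, 6,
      5, 4, 3, 2, 1, 3, 4, 5, 6, 0, 2, 3, 4, 5, 1, 3, 2], some 1),
   (18, [7, 6, 5, 4, 3, 2, 1, 3, 4, 5, 6, 0, 2, 3, 4, 5, 1, 3, 4, 2, 3, 0, 2, 1, 3, 4, 5, 6, 7, 6,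
      5, 4, 3, 2, 1, 3, 4, 5, 6, 0, 2, 3, 4, 1, 3, 2], some 1),
   (19, [7, 6, 5, 4, 3, 2, 1, 3, 4, 5, 6, 0, 2, 3, 4, 5, 1, 3, 4, 2, 3, 0, 2, 1, 3, 4, 5, 6, 7, 6,
      5, 4, 3, 2, 1, 3, 4, 5, 0, 2, 3, 4, 1, 3, 2], some 1),
   (20, [7, 6, 5, 4, 3, 2, 1, 3, 4, 5, 6, 7, 0, 2, 3, 4, 5, 1, 3, 4, 2, 3, 0, 2, 1, 3, 4, 5, 6, 5,
      4, 3, 2, 1, 3, 4, 5, 0, 2, 3, 4, 1, 3, 2], some 1),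
   (21, [7, 6, 5, 4, 3, 2, 1, 3, 4, 5, 6, 0, 2, 3, 4, 5, 1, 3, 4, 2, 3, 0, 2, 1, 3, 4, 5, 6, 7, 6,
      5, 4, 3, 2, 1, 3, 4, 5, 6, 0, 2, 3, 4, 5, 1, 3, 4], some 1),
   (22, [7, 6, 5, 4, 3, 2, 1, 3, 4, 5, 6, 0, 2, 3, 4, 5, 1, 3, 4, 2, 3, 0, 2, 1, 3, 4, 5, 6, 7, 6,
      5, 4, 3, 2, 1, 3, 4, 5, 6, 0, 2, 3, 4, 5, 1, 3], some 1),
   (23, [7, 6, 5, 4, 3, 2, 1, 3, 4, 5, 6, 0, 2, 3, 4, 5, 1, 3, 4, 2, 3, 0, 2, 1, 3, 4, 5, 6, 7, 6,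
      5, 4, 3, 2, 1, 3, 4, 5, 6, 0, 2, 3, 4, 1, 3], some 1),
   (24, [7, 6, 5, 4, 3, 2, 1, 3, 4, 5, 6, 0, 2, 3, 4, 5, 1, 3, 4, 2, 3, 0, 2, 1, 3, 4, 5, 6, 7, 6,
      5, 4, 3, 2, 1, 3, 4, 5, 0, 2, 3, 4, 1, 3], some 1),
   (25, [7, 6, 5, 4, 3, 2, 1, 3, 4, 5, 6, 7, 0, 2, 3, 4, 5, 1, 3, 4, 2, 3, 0, 2, 1, 3, 4, 5, 6, 5,
      4, 3, 2, 1, 3, 4, 5, 0, 2, 3, 4, 1, 3], some 1),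
   (26, [7, 6, 5, 4, 3, 2, 1, 3, 4, 5, 6, 0, 2, 3, 4, 5, 1, 3, 4, 2, 3, 0, 2, 1, 3, 4, 5, 6, 7, 6,
      5, 4, 3, 2, 1, 3, 4, 5, 6, 0, 2, 3, 4, 5, 1], some 1),
   (27, [7, 6, 5, 4, 3, 2, 1, 3, 4, 5, 6, 0, 2, 3, 4, 5, 1, 3, 4, 2, 3, 0, 2, 1, 3, 4, 5, 6, 7, 6,
      5, 4, 3, 2, 1, 3, 4, 5, 6, 0, 2, 3, 4, 1], some 1),
   (28, [7, 6, 5, 4, 3, 2, 1, 3, 4, 5, 6, 0, 2, 3, 4, 5, 1, 3, 4, 2, 3, 0, 2, 1, 3, 4, 5, 6, 7, 6,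
      5, 4, 3, 2, 1, 3, 4, 5, 0, 2, 3, 4, 1], some 1),
   (29, [7, 6, 5, 4, 3, 2, 1, 3, 4, 5, 6, 7, 0, 2, 3, 4, 5, 1, 3, 4, 2, 3, 0, 2, 1, 3, 4, 5, 6, 5,
      4, 3, 2, 1, 3, 4, 5, 0, 2, 3, 4, 1], some 1),
   (30, [7, 6, 5, 4, 3, 2, 1, 3, 4, 5, 6, 0, 2, 3, 4, 5, 1, 3, 4, 2, 3, 0, 2, 1, 3, 4, 5, 6, 7, 6,
      5, 4, 3, 2, 1, 3, 4, 5, 6, 0, 2, 3, 1], some 1),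
   (31, [7, 6, 5, 4, 3, 2, 1, 3, 4, 5, 6, 0, 2, 3, 4, 5, 1, 3, 4, 2, 3, 0, 2, 1, 3, 4, 5, 6, 7, 6,
      5, 4, 3, 2, 1, 3, 4, 5, 0, 2, 3, 1], some 1),
   (32, [7, 6, 5, 4, 3, 2, 1, 3, 4, 5, 6, 7, 0, 2, 3, 4, 5, 1, 3, 4, 2, 3, 0, 2, 1, 3, 4, 5, 6, 5,
      4, 3, 2, 1, 3, 4, 5, 0, 2, 3, 1], some 1),
   (33, [7, 6, 5, 4, 3, 2, 1, 3, 4, 5, 6, 0, 2, 3, 4, 5, 1, 3, 4, 2, 3, 0, 2, 1, 3, 4, 5, 6, 7, 6,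
      5, 4, 3, 2, 1, 3, 4, 0, 2, 3, 1], some 1),
   (34, [7, 6, 5, 4, 3, 2, 1, 3, 4, 5, 6, 7, 0, 2, 3, 4, 5, 1, 3, 4, 2, 3, 0, 2, 1, 3, 4, 5, 6, 5,
      4, 3, 2, 1, 3, 4, 0, 2, 3, 1], some 1),
   (35, [7, 6, 5, 4, 3, 2, 1, 3, 4, 5, 6, 7, 0, 2, 3, 4, 5, 6, 1, 3, 4, 2, 3, 0, 2, 1, 3, 4, 5, 4,
      3, 2, 1, 3, 4, 0, 2, 3, 1], some 1),
   (36, [7, 6, 5, 4, 3, 2, 1, 3, 4, 5, 6, 0, 2, 3, 4, 5, 1, 3, 4, 2, 3, 0, 2, 1, 3, 4, 5, 6, 7, 6,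
      5, 4, 3, 2, 1, 3, 4, 5, 6, 0, 2, 3, 4, 5], some 1),
   (37, [7, 6, 5, 4, 3, 2, 1, 3, 4, 5, 6, 0, 2, 3, 4, 5, 1, 3, 4, 2, 3, 0, 2, 1, 3, 4, 5, 6, 7, 6,
      5, 4, 3, 2, 1, 3, 4, 5, 6, 0, 2, 3, 4], some 1),
   (38, [7, 6, 5, 4, 3, 2, 1, 3, 4, 5, 6, 0, 2, 3, 4, 5, 1, 3, 4, 2, 3, 0, 2, 1, 3, 4, 5, 6, 7, 6,
      5, 4, 3, 2, 1, 3, 4, 5, 0, 2, 3, 4], some 1),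
   (39, [7, 6, 5, 4, 3, 2, 1, 3, 4, 5, 6, 7, 0, 2, 3, 4, 5, 1, 3, 4, 2, 3, 0, 2, 1, 3, 4, 5, 6, 5,
      4, 3, 2, 1, 3, 4, 5, 0, 2, 3, 4], some 1),
   (40, [7, 6, 5, 4, 3, 2, 1, 3, 4, 5, 6, 0, 2, 3, 4, 5, 1, 3, 4, 2, 3, 0, 2, 1, 3, 4, 5, 6, 7, 6,
      5, 4, 3, 2, 1, 3, 4, 5, 6, 0, 2, 3], some 1),
   (41, [7, 6, 5, 4, 3, 2, 1, 3, 4, 5, 6, 0, 2, 3, 4, 5, 1, 3, 4, 2, 3, 0, 2, 1, 3, 4, 5, 6, 7, 6,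
      5, 4, 3, 2, 1, 3, 4, 5, 0, 2, 3], some 1),
   (42, [7, 6, 5, 4, 3, 2, 1, 3, 4, 5, 6, 7, 0, 2, 3, 4, 5, 1, 3, 4, 2, 3, 0, 2, 1, 3, 4, 5, 6, 5,
      4, 3, 2, 1, 3, 4, 5, 0, 2, 3], some 1),
   (43, [7, 6, 5, 4, 3, 2, 1, 3, 4, 5, 6, 0, 2, 3, 4, 5, 1, 3, 4, 2, 3, 0, 2, 1, 3, 4, 5, 6, 7, 6,
      5, 4, 3, 2, 1, 3, 4, 0, 2, 3], some 1),
   (44, [7, 6, 5, 4, 3, 2, 1, 3, 4, 5, 6, 7, 0, 2, 3, 4, 5, 1, 3, 4, 2, 3, 0, 2, 1, 3, 4, 5, 6, 5,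
      4, 3, 2, 1, 3, 4, 0, 2, 3], some 1),
   (45, [7, 6, 5, 4, 3, 2, 1, 3, 4, 5, 6, 7, 0, 2, 3, 4, 5, 6, 1, 3, 4, 2, 3, 0, 2, 1, 3, 4, 5, 4,
      3, 2, 1, 3, 4, 0, 2, 3], some 1),
   (46, [7, 6, 5, 4, 3, 2, 1, 3, 4, 5, 6, 0, 2, 3, 4, 5, 1, 3, 4, 2, 3, 0, 2, 1, 3, 4, 5, 6, 7, 6,
      5, 4, 3, 2, 1, 3, 4, 5, 6, 0, 2], some 1),
   (47, [7, 6, 5, 4, 3, 2, 1, 3, 4, 5, 6, 0, 2, 3, 4, 5, 1, 3, 4, 2, 3, 0, 2, 1, 3, 4, 5, 6, 7, 6,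
      5, 4, 3, 2, 1, 3, 4, 5, 0, 2], some 1),
   (48, [7, 6, 5, 4, 3, 2, 1, 3, 4, 5, 6, 7, 0, 2, 3, 4, 5, 1, 3, 4, 2, 3, 0, 2, 1, 3, 4, 5, 6, 5,
      4, 3, 2, 1, 3, 4, 5, 0, 2], some 1),
   (49, [7, 6, 5, 4, 3, 2, 1, 3, 4, 5, 6, 0, 2, 3, 4, 5, 1, 3, 4, 2, 3, 0, 2, 1, 3, 4, 5, 6, 7, 6,
      5, 4, 3, 2, 1, 3, 4, 0, 2], some 1),
   (50, [7, 6, 5, 4, 3, 2, 1, 3, 4, 5, 6, 7, 0, 2, 3, 4, 5, 1, 3, 4, 2, 3, 0, 2, 1, 3, 4, 5, 6, 5,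
      4, 3, 2, 1, 3, 4, 0, 2], some 1),
   (51, [7, 6, 5, 4, 3, 2, 1, 3, 4, 5, 6, 7, 0, 2, 3, 4, 5, 6, 1, 3, 4, 2, 3, 0, 2, 1, 3, 4, 5, 4,
      3, 2, 1, 3, 4, 0, 2], some 1),
   (52, [7, 6, 5, 4, 3, 2, 1, 3, 4, 5, 6, 0, 2, 3, 4, 5, 1, 3, 4, 2, 3, 0, 2, 1, 3, 4, 5, 6, 7, 6,
      5, 4, 3, 2, 1, 3, 0, 2], some 1),
   (53, [7, 6, 5, 4, 3, 2, 1, 3, 4, 5, 6, 7, 0, 2, 3, 4, 5, 1, 3, 4, 2, 3, 0, 2, 1, 3, 4, 5, 6, 5,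
      4, 3, 2, 1, 3, 0, 2], some 1),
   (54, [7, 6, 5, 4, 3, 2, 1, 3, 4, 5, 6, 7, 0, 2, 3, 4, 5, 6, 1, 3, 4, 2, 3, 0, 2, 1, 3, 4, 5, 4,
      3, 2, 1, 3, 0, 2], some 1),
   (55, [7, 6, 5, 4, 3, 2, 1, 3, 4, 5, 6, 7, 0, 2, 3, 4, 5, 6, 1, 3, 4, 5, 2, 3, 0, 2, 1, 3, 4, 3,
      2, 1, 3, 0, 2], some 1),
   (56, [7, 6, 5, 4, 3, 2, 1, 3, 4, 5, 6, 0, 2, 3, 4, 5, 1, 3, 4, 2, 3, 0, 2, 1, 3, 4, 5, 6, 7, 6,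
      5, 4, 3, 2, 1, 3, 4, 5, 6, 0], some 1),
   (57, [7, 6, 5, 4, 3, 2, 1, 3, 4, 5, 6, 0, 2, 3, 4, 5, 1, 3, 4, 2, 3, 0, 2, 1, 3, 4, 5, 6, 7, 6,
      5, 4, 3, 2, 1, 3, 4, 5, 0], some 1),
   (58, [7, 6, 5, 4, 3, 2, 1, 3, 4, 5, 6, 7, 0, 2, 3, 4, 5, 1, 3, 4, 2, 3, 0, 2, 1, 3, 4, 5, 6, 5,
      4, 3, 2, 1, 3, 4, 5, 0], some 1),
   (59, [7, 6, 5, 4, 3, 2, 1, 3, 4, 5, 6, 0, 2, 3, 4, 5, 1, 3, 4, 2, 3, 0, 2, 1, 3, 4, 5, 6, 7, 6,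
      5, 4, 3, 2, 1, 3, 4, 0], some 1),
   (60, [7, 6, 5, 4, 3, 2, 1, 3, 4, 5, 6, 7, 0, 2, 3, 4, 5, 1, 3, 4, 2, 3, 0, 2, 1, 3, 4, 5, 6, 5,
      4, 3, 2, 1, 3, 4, 0], some 1),
   (61, [7, 6, 5, 4, 3, 2, 1, 3, 4, 5, 6, 7, 0, 2, 3, 4, 5, 6, 1, 3, 4, 2, 3, 0, 2, 1, 3, 4, 5, 4,
      3, 2, 1, 3, 4, 0], some 1),
   (62, [7, 6, 5, 4, 3, 2, 1, 3, 4, 5, 6, 0, 2, 3, 4, 5, 1, 3, 4, 2, 3, 0, 2, 1, 3, 4, 5, 6, 7, 6,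
      5, 4, 3, 2, 1, 3, 0], some 1),
   (63, [7, 6, 5, 4, 3, 2, 1, 3, 4, 5, 6, 7, 0, 2, 3, 4, 5, 1, 3, 4, 2, 3, 0, 2, 1, 3, 4, 5, 6, 5,
      4, 3, 2, 1, 3, 0], some 1),
   (64, [7, 6, 5, 4, 3, 2, 1, 3, 4, 5, 6, 7, 0, 2, 3, 4, 5, 6, 1, 3, 4, 2, 3, 0, 2, 1, 3, 4, 5, 4,
      3, 2, 1, 3, 0], some 1),
   (65, [7, 6, 5, 4, 3, 2, 1, 3, 4, 5, 6, 7, 0, 2, 3, 4, 5, 6, 1, 3, 4, 5, 2, 3, 0, 2, 1, 3, 4, 3,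
      2, 1, 3, 0], some 1),
   (66, [7, 6, 5, 4, 3, 2, 1, 3, 4, 5, 6, 0, 2, 3, 4, 5, 1, 3, 4, 2, 3, 0, 2, 1, 3, 4, 5, 6, 7, 6,
      5, 4, 3, 2, 1, 0], some 1),
   (67, [7, 6, 5, 4, 3, 2, 1, 3, 4, 5, 6, 7, 0, 2, 3, 4, 5, 1, 3, 4, 2, 3, 0, 2, 1, 3, 4, 5, 6, 5,
      4, 3, 2, 1, 0], some 1),
   (68, [7, 6, 5, 4, 3, 2, 1, 3, 4, 5, 6, 7, 0, 2, 3, 4, 5, 6, 1, 3, 4, 2, 3, 0, 2, 1, 3, 4, 5, 4,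
      3, 2, 1, 0], some 1),
   (69, [7, 6, 5, 4, 3, 2, 1, 3, 4, 5, 6, 7, 0, 2, 3, 4, 5, 6, 1, 3, 4, 5, 2, 3, 0, 2, 1, 3, 4, 3,
      2, 1, 0], some 1),
   (70, [7, 6, 5, 4, 3, 2, 1, 3, 4, 5, 6, 7, 0, 2, 3, 4, 5, 6, 1, 3, 4, 5, 2, 3, 4, 0, 2, 1, 3, 2,
      1, 0], some 1),
   (71, [7, 6, 5, 4, 3, 2, 1, 3, 4, 5, 6, 0, 2, 3, 4, 5, 1, 3, 4, 2, 3, 0, 2, 1, 3, 4, 5, 6, 7, 6,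
      5, 4, 3, 2, 0], some 1),
   (72, [7, 6, 5, 4, 3, 2, 1, 3, 4, 5, 6, 7, 0, 2, 3, 4, 5, 1, 3, 4, 2, 3, 0, 2, 1, 3, 4, 5, 6, 5,
      4, 3, 2, 0], some 1),
   (73, [7, 6, 5, 4, 3, 2, 1, 3, 4, 5, 6, 7, 0, 2, 3, 4, 5, 6, 1, 3, 4, 2, 3, 0, 2, 1, 3, 4, 5, 4,
      3, 2, 0], some 1),
   (74, [7, 6, 5, 4, 3, 2, 1, 3, 4, 5, 6, 7, 0, 2, 3, 4, 5, 6, 1, 3, 4, 5, 2, 3, 0, 2, 1, 3, 4, 3,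
      2, 0], some 1),
   (75, [7, 6, 5, 4, 3, 2, 1, 3, 4, 5, 6, 7, 0, 2, 3, 4, 5, 6, 1, 3, 4, 5, 2, 3, 4, 0, 2, 1, 3, 2,
      0], some 1),
   (76, [7, 6, 5, 4, 3, 2, 1, 3, 4, 5, 6, 7, 0, 2, 3, 4, 5, 6, 1, 3, 4, 5, 2, 3, 4, 1, 3, 0, 2, 0], some 1),
   (77, [7, 6, 5, 4, 3, 2, 1, 3, 4, 5, 6, 7, 0, 2, 3, 4, 5, 6, 1, 3, 4, 5, 2, 3, 4, 1, 3, 2, 0], some 1),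
   (78, [7, 6, 5, 4, 3, 2, 1, 3, 4, 5, 6, 0, 2, 3, 4, 5, 1, 3, 4, 2, 3, 0, 2, 1, 3, 4, 5, 6, 7, 6,
      5, 4, 3, 2, 1, 3, 4, 5, 6], some 1),
   (79, [7, 6, 5, 4, 3, 2, 1, 3, 4, 5, 6, 0, 2, 3, 4, 5, 1, 3, 4, 2, 3, 0, 2, 1, 3, 4, 5, 6, 7, 6,
      5, 4, 3, 2, 1, 3, 4, 5], some 1),
   (80, [7, 6, 5, 4, 3, 2, 1, 3, 4, 5, 6, 7, 0, 2, 3, 4, 5, 1, 3, 4, 2, 3, 0, 2, 1, 3, 4, 5, 6, 5,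
      4, 3, 2, 1, 3, 4, 5], some 1),
   (81, [7, 6, 5, 4, 3, 2, 1, 3, 4, 5, 6, 0, 2, 3, 4, 5, 1, 3, 4, 2, 3, 0, 2, 1, 3, 4, 5, 6, 7, 6,
      5, 4, 3, 2, 1, 3, 4], some 1),
   (82, [7, 6, 5, 4, 3, 2, 1, 3, 4, 5, 6, 7, 0, 2, 3, 4, 5, 1, 3, 4, 2, 3, 0, 2, 1, 3, 4, 5, 6, 5,
      4, 3, 2, 1, 3, 4], some 1),
   (83, [7, 6, 5, 4, 3, 2, 1, 3, 4, 5, 6, 7, 0, 2, 3, 4, 5, 6, 1, 3, 4, 2, 3, 0, 2, 1, 3, 4, 5, 4,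
      3, 2, 1, 3, 4], some 1),
   (84, [7, 6, 5, 4, 3, 2, 1, 3, 4, 5, 6, 0, 2, 3, 4, 5, 1, 3, 4, 2, 3, 0, 2, 1, 3, 4, 5, 6, 7, 6,
      5, 4, 3, 2, 1, 3], some 1),
   (85, [7, 6, 5, 4, 3, 2, 1, 3, 4, 5, 6, 7, 0, 2, 3, 4, 5, 1, 3, 4, 2, 3, 0, 2, 1, 3, 4, 5, 6, 5,
      4, 3, 2, 1, 3], some 1),
   (86, [7, 6, 5, 4, 3, 2, 1, 3, 4, 5, 6, 7, 0, 2, 3, 4, 5, 6, 1, 3, 4, 2, 3, 0, 2, 1, 3, 4, 5, 4,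
      3, 2, 1, 3], some 1),
   (87, [7, 6, 5, 4, 3, 2, 1, 3, 4, 5, 6, 7, 0, 2, 3, 4, 5, 6, 1, 3, 4, 5, 2, 3, 0, 2, 1, 3, 4, 3,
      2, 1, 3], some 1),
   (88, [7, 6, 5, 4, 3, 2, 1, 3, 4, 5, 6, 0, 2, 3, 4, 5, 1, 3, 4, 2, 3, 0, 2, 1, 3, 4, 5, 6, 7, 6,
      5, 4, 3, 2, 1], some 1),
   (89, [7, 6, 5, 4, 3, 2, 1, 3, 4, 5, 6, 7, 0, 2, 3, 4, 5, 1, 3, 4, 2, 3, 0, 2, 1, 3, 4, 5, 6, 5,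
      4, 3, 2, 1], some 1),
   (90, [7, 6, 5, 4, 3, 2, 1, 3, 4, 5, 6, 7, 0, 2, 3, 4, 5, 6, 1, 3, 4, 2, 3, 0, 2, 1, 3, 4, 5, 4,
      3, 2, 1], some 1),
   (91, [7, 6, 5, 4, 3, 2, 1, 3, 4, 5, 6, 7, 0, 2, 3, 4, 5, 6, 1, 3, 4, 5, 2, 3, 0, 2, 1, 3, 4, 3,
      2, 1], some 1),
   (92, [7, 6, 5, 4, 3, 2, 1, 3, 4, 5, 6, 7, 0, 2, 3, 4, 5, 6, 1, 3, 4, 5, 2, 3, 4, 0, 2, 1, 3, 2,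
      1], some 1),
   (93, [7, 6, 5, 4, 3, 2, 1, 3, 4, 5, 6, 0, 2, 3, 4, 5, 1, 3, 4, 2, 3, 0, 2, 1, 3, 4, 5, 6, 7, 6,
      5, 4, 3, 1], some 1),
   (94, [7, 6, 5, 4, 3, 2, 1, 3, 4, 5, 6, 7, 0, 2, 3, 4, 5, 1, 3, 4, 2, 3, 0, 2, 1, 3, 4, 5, 6, 5,
      4, 3, 1], some 1),
   (95, [7, 6, 5, 4, 3, 2, 1, 3, 4, 5, 6, 7, 0, 2, 3, 4, 5, 6, 1, 3, 4, 2, 3, 0, 2, 1, 3, 4, 5, 4,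
      3, 1], some 1),
   (96, [7, 6, 5, 4, 3, 2, 1, 3, 4, 5, 6, 7, 0, 2, 3, 4, 5, 6, 1, 3, 4, 5, 2, 3, 0, 2, 1, 3, 4, 3,
      1], some 1),
   (97, [7, 6, 5, 4, 3, 2, 1, 3, 4, 5, 6, 7, 0, 2, 3, 4, 5, 6, 1, 3, 4, 5, 2, 3, 4, 0, 2, 1, 3, 1], some 1),
   (98, [7, 6, 5, 4, 3, 2, 1, 3, 4, 5, 6, 7, 0, 2, 3, 4, 5, 6, 1, 3, 4, 5, 2, 3, 4, 0, 2, 3, 1], some 1),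
   (99, [7, 6, 5, 4, 3, 2, 1, 3, 4, 5, 6, 0, 2, 3, 4, 5, 1, 3, 4, 2, 3, 0, 2, 1, 3, 4, 5, 6, 7, 6,
      5, 4, 3, 2], some 1),
   (100, [7, 6, 5, 4, 3, 2, 1, 3, 4, 5, 6, 7, 0, 2, 3, 4, 5, 1, 3, 4, 2, 3, 0, 2, 1, 3, 4, 5, 6, 5,
      4, 3, 2], some 1),
   (101, [7, 6, 5, 4, 3, 2, 1, 3, 4, 5, 6, 7, 0, 2, 3, 4, 5, 6, 1, 3, 4, 2, 3, 0, 2, 1, 3, 4, 5, 4,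
      3, 2], some 1),
   (102, [7, 6, 5, 4, 3, 2, 1, 3, 4, 5, 6, 7, 0, 2, 3, 4, 5, 6, 1, 3, 4, 5, 2, 3, 0, 2, 1, 3, 4, 3,
      2], some 1),
   (103, [7, 6, 5, 4, 3, 2, 1, 3, 4, 5, 6, 7, 0, 2, 3, 4, 5, 6, 1, 3, 4, 5, 2, 3, 4, 0, 2, 1, 3, 2], some 1),
   (104, [7, 6, 5, 4, 3, 2, 1, 3, 4, 5, 6, 7, 0, 2, 3, 4, 5, 6, 1, 3, 4, 5, 2, 3, 4, 1, 3, 0, 2], some 1),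
   (105, [7, 6, 5, 4, 3, 2, 1, 3, 4, 5, 6, 0, 2, 3, 4, 5, 1, 3, 4, 2, 3, 0, 2, 1, 3, 4, 5, 6, 7, 6,
      5, 4, 3], some 1),
   (106, [7, 6, 5, 4, 3, 2, 1, 3, 4, 5, 6, 7, 0, 2, 3, 4, 5, 1, 3, 4, 2, 3, 0, 2, 1, 3, 4, 5, 6, 5,
      4, 3], some 1),
   (107, [7, 6, 5, 4, 3, 2, 1, 3, 4, 5, 6, 7, 0, 2, 3, 4, 5, 6, 1, 3, 4, 2, 3, 0, 2, 1, 3, 4, 5, 4,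
      3], some 1),
   (108, [7, 6, 5, 4, 3, 2, 1, 3, 4, 5, 6, 7, 0, 2, 3, 4, 5, 6, 1, 3, 4, 5, 2, 3, 0, 2, 1, 3, 4, 3], some 1),
   (109, [7, 6, 5, 4, 3, 2, 1, 3, 4, 5, 6, 7, 0, 2, 3, 4, 5, 6, 1, 3, 4, 5, 2, 3, 4, 0, 2, 1, 3], some 1),
   (110, [7, 6, 5, 4, 3, 2, 1, 3, 4, 5, 6, 0, 2, 3, 4, 5, 1, 3, 4, 2, 3, 0, 2, 1, 3, 4, 5, 6, 7, 6,
      5, 4], some 1),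
   (111, [7, 6, 5, 4, 3, 2, 1, 3, 4, 5, 6, 7, 0, 2, 3, 4, 5, 1, 3, 4, 2, 3, 0, 2, 1, 3, 4, 5, 6, 5,
      4], some 1),
   (112, [7, 6, 5, 4, 3, 2, 1, 3, 4, 5, 6, 7, 0, 2, 3, 4, 5, 6, 1, 3, 4, 2, 3, 0, 2, 1, 3, 4, 5, 4], some 1),
   (113, [7, 6, 5, 4, 3, 2, 1, 3, 4, 5, 6, 7, 0, 2, 3, 4, 5, 6, 1, 3, 4, 5, 2, 3, 0, 2, 1, 3, 4], some 1),
   (114, [7, 6, 5, 4, 3, 2, 1, 3, 4, 5, 6, 0, 2, 3, 4, 5, 1, 3, 4, 2, 3, 0, 2, 1, 3, 4, 5, 6, 7, 6,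
      5], some 1),
   (115, [7, 6, 5, 4, 3, 2, 1, 3, 4, 5, 6, 7, 0, 2, 3, 4, 5, 1, 3, 4, 2, 3, 0, 2, 1, 3, 4, 5, 6, 5], some 1),
   (116, [7, 6, 5, 4, 3, 2, 1, 3, 4, 5, 6, 7, 0, 2, 3, 4, 5, 6, 1, 3, 4, 2, 3, 0, 2, 1, 3, 4, 5], some 1),
   (117, [7, 6, 5, 4, 3, 2, 1, 3, 4, 5, 6, 0, 2, 3, 4, 5, 1, 3, 4, 2, 3, 0, 2, 1, 3, 4, 5, 6, 7, 6], some 1),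
   (118, [7, 6, 5, 4, 3, 2, 1, 3, 4, 5, 6, 7, 0, 2, 3, 4, 5, 1, 3, 4, 2, 3, 0, 2, 1, 3, 4, 5, 6], some 1),
   (119, [7, 6, 5, 4, 3, 2, 1, 3, 4, 5, 6, 0, 2, 3, 4, 5, 1, 3, 4, 2, 3, 0, 2, 1, 3, 4, 5, 6, 7], some 1),
   (120, [7, 6, 5, 4, 3, 2, 1, 3, 4, 5, 6, 0, 2, 3, 4, 5, 1, 3, 4, 2, 3, 0, 2, 1, 3, 4, 5, 6], some 1),
   (121, [7, 6, 5, 4, 3, 2, 1, 3, 4, 5, 6, 7, 0, 2, 3, 4, 5, 1, 3, 4, 2, 3, 0, 2, 1, 3, 4, 5], some 1),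
   (122, [7, 6, 5, 4, 3, 2, 1, 3, 4, 5, 6, 0, 2, 3, 4, 5, 1, 3, 4, 2, 3, 0, 2, 1, 3, 4, 5], some 1),
   (123, [7, 6, 5, 4, 3, 2, 1, 3, 4, 5, 6, 7, 0, 2, 3, 4, 5, 6, 1, 3, 4, 2, 3, 0, 2, 1, 3, 4], some 1),
   (124, [7, 6, 5, 4, 3, 2, 1, 3, 4, 5, 6, 7, 0, 2, 3, 4, 5, 1, 3, 4, 2, 3, 0, 2, 1, 3, 4], some 1),
   (125, [7, 6, 5, 4, 3, 2, 1, 3, 4, 5, 6, 0, 2, 3, 4, 5, 1, 3, 4, 2, 3, 0, 2, 1, 3, 4], some 1),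
   (126, [7, 6, 5, 4, 3, 2, 1, 3, 4, 5, 6, 7, 0, 2, 3, 4, 5, 6, 1, 3, 4, 5, 2, 3, 0, 2, 1, 3], some 1),
   (127, [7, 6, 5, 4, 3, 2, 1, 3, 4, 5, 6, 7, 0, 2, 3, 4, 5, 6, 1, 3, 4, 2, 3, 0, 2, 1, 3], some 1),
   (128, [7, 6, 5, 4, 3, 2, 1, 3, 4, 5, 6, 7, 0, 2, 3, 4, 5, 1, 3, 4, 2, 3, 0, 2, 1, 3], some 1),
   (129, [7, 6, 5, 4, 3, 2, 1, 3, 4, 5, 6, 0, 2, 3, 4, 5, 1, 3, 4, 2, 3, 0, 2, 1, 3], some 1),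
   (130, [7, 6, 5, 4, 3, 2, 1, 3, 4, 5, 6, 7, 0, 2, 3, 4, 5, 6, 1, 3, 4, 5, 2, 3, 4, 0, 2, 1], some 1),
   (131, [7, 6, 5, 4, 3, 2, 1, 3, 4, 5, 6, 7, 0, 2, 3, 4, 5, 6, 1, 3, 4, 5, 2, 3, 0, 2, 1], some 1),
   (132, [7, 6, 5, 4, 3, 2, 1, 3, 4, 5, 6, 7, 0, 2, 3, 4, 5, 6, 1, 3, 4, 2, 3, 0, 2, 1], some 1),
   (133, [7, 6, 5, 4, 3, 2, 1, 3, 4, 5, 6, 7, 0, 2, 3, 4, 5, 1, 3, 4, 2, 3, 0, 2, 1], some 1),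
   (134, [7, 6, 5, 4, 3, 2, 1, 3, 4, 5, 6, 0, 2, 3, 4, 5, 1, 3, 4, 2, 3, 0, 2, 1], some 1),
   (135, [7, 6, 5, 4, 3, 2, 1, 3, 4, 5, 6, 7, 0, 2, 3, 4, 5, 6, 1, 3, 4, 5, 2, 3, 4, 1, 3, 0], some 1),
   (136, [7, 6, 5, 4, 3, 2, 1, 3, 4, 5, 6, 7, 0, 2, 3, 4, 5, 6, 1, 3, 4, 5, 2, 3, 4, 1, 0], some 1),
   (137, [7, 6, 5, 4, 3, 2, 1, 3, 4, 5, 6, 7, 0, 2, 3, 4, 5, 6, 1, 3, 4, 5, 2, 3, 1, 0], some 1),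
   (138, [7, 6, 5, 4, 3, 2, 1, 3, 4, 5, 6, 7, 0, 2, 3, 4, 5, 6, 1, 3, 4, 2, 3, 1, 0], some 1),
   (139, [7, 6, 5, 4, 3, 2, 1, 3, 4, 5, 6, 7, 0, 2, 3, 4, 5, 1, 3, 4, 2, 3, 1, 0], some 1),
   (140, [7, 6, 5, 4, 3, 2, 1, 3, 4, 5, 6, 0, 2, 3, 4, 5, 1, 3, 4, 2, 3, 1, 0], some 1),
   (141, [7, 6, 5, 4, 3, 2, 1, 3, 4, 5, 6, 7, 0, 2, 3, 4, 5, 6, 1, 3, 4, 5, 2, 3, 4, 0, 2, 3], some 1),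
   (142, [7, 6, 5, 4, 3, 2, 1, 3, 4, 5, 6, 7, 0, 2, 3, 4, 5, 6, 1, 3, 4, 5, 2, 3, 4, 0, 2], some 1),
   (143, [7, 6, 5, 4, 3, 2, 1, 3, 4, 5, 6, 7, 0, 2, 3, 4, 5, 6, 1, 3, 4, 5, 2, 3, 0, 2], some 1),
   (144, [7, 6, 5, 4, 3, 2, 1, 3, 4, 5, 6, 7, 0, 2, 3, 4, 5, 6, 1, 3, 4, 2, 3, 0, 2], some 1),
   (145, [7, 6, 5, 4, 3, 2, 1, 3, 4, 5, 6, 7, 0, 2, 3, 4, 5, 1, 3, 4, 2, 3, 0, 2], some 1),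
   (146, [7, 6, 5, 4, 3, 2, 1, 3, 4, 5, 6, 0, 2, 3, 4, 5, 1, 3, 4, 2, 3, 0, 2], some 1),
   (147, [7, 6, 5, 4, 3, 2, 1, 3, 4, 5, 6, 7, 0, 2, 3, 4, 5, 6, 1, 3, 4, 5, 2, 3, 4, 0], some 1),
   (148, [7, 6, 5, 4, 3, 2, 1, 3, 4, 5, 6, 7, 0, 2, 3, 4, 5, 6, 1, 3, 4, 5, 2, 3, 0], some 1),
   (149, [7, 6, 5, 4, 3, 2, 1, 3, 4, 5, 6, 7, 0, 2, 3, 4, 5, 6, 1, 3, 4, 2, 3, 0], some 1),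
   (150, [7, 6, 5, 4, 3, 2, 1, 3, 4, 5, 6, 7, 0, 2, 3, 4, 5, 1, 3, 4, 2, 3, 0], some 1),
   (151, [7, 6, 5, 4, 3, 2, 1, 3, 4, 5, 6, 0, 2, 3, 4, 5, 1, 3, 4, 2, 3, 0], some 1),
   (152, [7, 6, 5, 4, 3, 2, 1, 3, 4, 5, 6, 7, 0, 2, 3, 4, 5, 6, 1, 3, 4, 5, 2, 0], some 1),
   (153, [7, 6, 5, 4, 3, 2, 1, 3, 4, 5, 6, 7, 0, 2, 3, 4, 5, 6, 1, 3, 4, 2, 0], some 1),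
   (154, [7, 6, 5, 4, 3, 2, 1, 3, 4, 5, 6, 7, 0, 2, 3, 4, 5, 1, 3, 4, 2, 0], some 1),
   (155, [7, 6, 5, 4, 3, 2, 1, 3, 4, 5, 6, 0, 2, 3, 4, 5, 1, 3, 4, 2, 0], some 1),
   (156, [7, 6, 5, 4, 3, 2, 1, 3, 4, 5, 6, 7, 0, 2, 3, 4, 5, 6, 1, 3, 2, 0], some 1),
   (157, [7, 6, 5, 4, 3, 2, 1, 3, 4, 5, 6, 7, 0, 2, 3, 4, 5, 1, 3, 2, 0], some 1),
   (158, [7, 6, 5, 4, 3, 2, 1, 3, 4, 5, 6, 0, 2, 3, 4, 5, 1, 3, 2, 0], some 1),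
   (159, [7, 6, 5, 4, 3, 2, 1, 3, 4, 5, 6, 7, 0, 2, 3, 4, 1, 3, 2, 0], some 1),
   (160, [7, 6, 5, 4, 3, 2, 1, 3, 4, 5, 6, 0, 2, 3, 4, 1, 3, 2, 0], some 1),
   (161, [7, 6, 5, 4, 3, 2, 1, 3, 4, 5, 0, 2, 3, 4, 1, 3, 2, 0], some 1),
   (162, [7, 6, 5, 4, 3, 2, 1, 3, 4, 5, 6, 7, 0, 2, 3, 4, 5, 6, 1, 3, 4, 5, 2, 3, 4, 1, 3, 2], some 1),
   (163, [7, 6, 5, 4, 3, 2, 1, 3, 4, 5, 6, 7, 0, 2, 3, 4, 5, 6, 1, 3, 4, 5, 2, 3, 4, 1, 3], some 1),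
   (164, [7, 6, 5, 4, 3, 2, 1, 3, 4, 5, 6, 7, 0, 2, 3, 4, 5, 6, 1, 3, 4, 5, 2, 3, 4, 1], some 1),
   (165, [7, 6, 5, 4, 3, 2, 1, 3, 4, 5, 6, 7, 0, 2, 3, 4, 5, 6, 1, 3, 4, 5, 2, 3, 1], some 1),
   (166, [7, 6, 5, 4, 3, 2, 1, 3, 4, 5, 6, 7, 0, 2, 3, 4, 5, 6, 1, 3, 4, 2, 3, 1], some 1),
   (167, [7, 6, 5, 4, 3, 2, 1, 3, 4, 5, 6, 7, 0, 2, 3, 4, 5, 1, 3, 4, 2, 3, 1], some 1),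
   (168, [7, 6, 5, 4, 3, 2, 1, 3, 4, 5, 6, 0, 2, 3, 4, 5, 1, 3, 4, 2, 3, 1], some 1),
   (169, [7, 6, 5, 4, 3, 2, 1, 3, 4, 5, 6, 7, 0, 2, 3, 4, 5, 6, 1, 3, 4, 5, 2, 3, 4], some 1),
   (170, [7, 6, 5, 4, 3, 2, 1, 3, 4, 5, 6, 7, 0, 2, 3, 4, 5, 6, 1, 3, 4, 5, 2, 3], some 1),
   (171, [7, 6, 5, 4, 3, 2, 1, 3, 4, 5, 6, 7, 0, 2, 3, 4, 5, 6, 1, 3, 4, 2, 3], some 1),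
   (172, [7, 6, 5, 4, 3, 2, 1, 3, 4, 5, 6, 7, 0, 2, 3, 4, 5, 1, 3, 4, 2, 3], some 1),
   (173, [7, 6, 5, 4, 3, 2, 1, 3, 4, 5, 6, 0, 2, 3, 4, 5, 1, 3, 4, 2, 3], some 1),
   (174, [7, 6, 5, 4, 3, 2, 1, 3, 4, 5, 6, 7, 0, 2, 3, 4, 5, 6, 1, 3, 4, 5, 2], some 1),
   (175, [7, 6, 5, 4, 3, 2, 1, 3, 4, 5, 6, 7, 0, 2, 3, 4, 5, 6, 1, 3, 4, 2], some 1),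
   (176, [7, 6, 5, 4, 3, 2, 1, 3, 4, 5, 6, 7, 0, 2, 3, 4, 5, 1, 3, 4, 2], some 1),
   (177, [7, 6, 5, 4, 3, 2, 1, 3, 4, 5, 6, 0, 2, 3, 4, 5, 1, 3, 4, 2], some 1),
   (178, [7, 6, 5, 4, 3, 2, 1, 3, 4, 5, 6, 7, 0, 2, 3, 4, 5, 6, 1, 3, 2], some 1),
   (179, [7, 6, 5, 4, 3, 2, 1, 3, 4, 5, 6, 7, 0, 2, 3, 4, 5, 1, 3, 2], some 1),
   (180, [7, 6, 5, 4, 3, 2, 1, 3, 4, 5, 6, 0, 2, 3, 4, 5, 1, 3, 2], some 1),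
   (181, [7, 6, 5, 4, 3, 2, 1, 3, 4, 5, 6, 7, 0, 2, 3, 4, 1, 3, 2], some 1),
   (182, [7, 6, 5, 4, 3, 2, 1, 3, 4, 5, 6, 0, 2, 3, 4, 1, 3, 2], some 1),
   (183, [7, 6, 5, 4, 3, 2, 1, 3, 4, 5, 0, 2, 3, 4, 1, 3, 2], some 1),
   (184, [7, 6, 5, 4, 3, 2, 1, 3, 4, 5, 6, 7, 0, 2, 3, 4, 5, 6, 1, 3, 4, 5], some 1),
   (185, [7, 6, 5, 4, 3, 2, 1, 3, 4, 5, 6, 7, 0, 2, 3, 4, 5, 6, 1, 3, 4], some 1),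
   (186, [7, 6, 5, 4, 3, 2, 1, 3, 4, 5, 6, 7, 0, 2, 3, 4, 5, 1, 3, 4], some 1),
   (187, [7, 6, 5, 4, 3, 2, 1, 3, 4, 5, 6, 0, 2, 3, 4, 5, 1, 3, 4], some 1),
   (188, [7, 6, 5, 4, 3, 2, 1, 3, 4, 5, 6, 7, 0, 2, 3, 4, 5, 6, 1, 3], some 1),
   (189, [7, 6, 5, 4, 3, 2, 1, 3, 4, 5, 6, 7, 0, 2, 3, 4, 5, 1, 3], some 1),
   (190, [7, 6, 5, 4, 3, 2, 1, 3, 4, 5, 6, 0, 2, 3, 4, 5, 1, 3], some 1),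
   (191, [7, 6, 5, 4, 3, 2, 1, 3, 4, 5, 6, 7, 0, 2, 3, 4, 1, 3], some 1),
   (192, [7, 6, 5, 4, 3, 2, 1, 3, 4, 5, 6, 0, 2, 3, 4, 1, 3], some 1),
   (193, [7, 6, 5, 4, 3, 2, 1, 3, 4, 5, 0, 2, 3, 4, 1, 3], some 1),
   (194, [7, 6, 5, 4, 3, 2, 1, 3, 4, 5, 6, 7, 0, 2, 3, 4, 5, 6, 1], some 1),
   (195, [7, 6, 5, 4, 3, 2, 1, 3, 4, 5, 6, 7, 0, 2, 3, 4, 5, 1], some 1),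
   (196, [7, 6, 5, 4, 3, 2, 1, 3, 4, 5, 6, 0, 2, 3, 4, 5, 1], some 1),
   (197, [7, 6, 5, 4, 3, 2, 1, 3, 4, 5, 6, 7, 0, 2, 3, 4, 1], some 1),
   (198, [7, 6, 5, 4, 3, 2, 1, 3, 4, 5, 6, 0, 2, 3, 4, 1], some 1),
   (199, [7, 6, 5, 4, 3, 2, 1, 3, 4, 5, 0, 2, 3, 4, 1], some 1),
   (200, [7, 6, 5, 4, 3, 2, 1, 3, 4, 5, 6, 7, 0, 2, 3, 1], some 1),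
   (201, [7, 6, 5, 4, 3, 2, 1, 3, 4, 5, 6, 0, 2, 3, 1], some 1),
   (202, [7, 6, 5, 4, 3, 2, 1, 3, 4, 5, 0, 2, 3, 1], some 1),
   (203, [7, 6, 5, 4, 3, 2, 1, 3, 4, 0, 2, 3, 1], some 1),
   (204, [7, 6, 5, 4, 3, 2, 1, 3, 4, 5, 6, 7, 0, 2, 3, 4, 5, 6], some 1),
   (205, [7, 6, 5, 4, 3, 2, 1, 3, 4, 5, 6, 7, 0, 2, 3, 4, 5], some 1),
   (206, [7, 6, 5, 4, 3, 2, 1, 3, 4, 5, 6, 0, 2, 3, 4, 5], some 1),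
   (207, [7, 6, 5, 4, 3, 2, 1, 3, 4, 5, 6, 7, 0, 2, 3, 4], some 1),
   (208, [7, 6, 5, 4, 3, 2, 1, 3, 4, 5, 6, 0, 2, 3, 4], some 1),
   (209, [7, 6, 5, 4, 3, 2, 1, 3, 4, 5, 0, 2, 3, 4], some 1),
   (210, [7, 6, 5, 4, 3, 2, 1, 3, 4, 5, 6, 7, 0, 2, 3], some 1),
   (211, [7, 6, 5, 4, 3, 2, 1, 3, 4, 5, 6, 0, 2, 3], some 1),
   (212, [7, 6, 5, 4, 3, 2, 1, 3, 4, 5, 0, 2, 3], some 1),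
   (213, [7, 6, 5, 4, 3, 2, 1, 3, 4, 0, 2, 3], some 1),
   (214, [7, 6, 5, 4, 3, 2, 1, 3, 4, 5, 6, 7, 0, 2], some 1),
   (215, [7, 6, 5, 4, 3, 2, 1, 3, 4, 5, 6, 0, 2], some 1),
   (216, [7, 6, 5, 4, 3, 2, 1, 3, 4, 5, 0, 2], some 1),
   (217, [7, 6, 5, 4, 3, 2, 1, 3, 4, 0, 2], some 1),
   (218, [7, 6, 5, 4, 3, 2, 1, 3, 0, 2], some 1),
   (219, [7, 6, 5, 4, 3, 2, 1, 3, 4, 5, 6, 7, 0], some 1),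
   (220, [7, 6, 5, 4, 3, 2, 1, 3, 4, 5, 6, 0], some 1),
   (221, [7, 6, 5, 4, 3, 2, 1, 3, 4, 5, 0], some 1),
   (222, [7, 6, 5, 4, 3, 2, 1, 3, 4, 0], some 1),
   (223, [7, 6, 5, 4, 3, 2, 1, 3, 0], some 1),
   (224, [7, 6, 5, 4, 3, 2, 1, 0], some 1),
   (225, [7, 6, 5, 4, 3, 2, 0], some 1),
   (226, [7, 6, 5, 4, 3, 2, 1, 3, 4, 5, 6, 7], some 1),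
   (227, [7, 6, 5, 4, 3, 2, 1, 3, 4, 5, 6], some 1),
   (228, [7, 6, 5, 4, 3, 2, 1, 3, 4, 5], some 1),
   (229, [7, 6, 5, 4, 3, 2, 1, 3, 4], some 1),
   (230, [7, 6, 5, 4, 3, 2, 1, 3], some 1),
   (231, [7, 6, 5, 4, 3, 2, 1], some 1),
   (232, [7, 6, 5, 4, 3, 1], some 1),
   (233, [7, 6, 5, 4, 3, 2], some 1),
   (234, [7, 6, 5, 4, 3], some 1),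
   (235, [7, 6, 5, 4], some 1),
   (236, [7, 6, 5], some 1),
   (237, [7, 6], some 1),
   (238, [7], some 1),
   (239, [], some 1)]

/-- The steps from representative 1. -/
def steps1 : List (ℕ × List ℕ × Option ℕ) :=
  [(13, [1, 2, 1, 3, 4, 5, 6, 7, 0, 2, 3, 4, 5, 1, 3, 4, 2, 3, 0, 2, 1, 3, 4, 5, 6, 5, 4, 3, 2, 1,
      3, 4, 5, 0, 2, 3, 4, 1, 3, 2, 0], some 2),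
   (20, [1, 2, 1, 3, 4, 5, 6, 7, 0, 2, 3, 4, 5, 1, 3, 4, 2, 3, 0, 2, 1, 3, 4, 5, 6, 5, 4, 3, 2, 1,
      3, 4, 5, 0, 2, 3, 4, 1, 3, 2], some 2),
   (25, [1, 2, 1, 3, 4, 5, 6, 7, 0, 2, 3, 4, 5, 1, 3, 4, 2, 3, 0, 2, 1, 3, 4, 5, 6, 5, 4, 3, 2, 1,
      3, 4, 5, 0, 2, 3, 4, 1, 3], some 2),
   (29, [1, 2, 1, 3, 4, 5, 6, 7, 0, 2, 3, 4, 5, 1, 3, 4, 2, 3, 0, 2, 1, 3, 4, 5, 6, 5, 4, 3, 2, 1,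
      3, 4, 5, 0, 2, 3, 4, 1], some 2),
   (32, [1, 2, 1, 3, 4, 5, 6, 7, 0, 2, 3, 4, 5, 1, 3, 4, 2, 3, 0, 2, 1, 3, 4, 5, 6, 5, 4, 3, 2, 1,
      3, 4, 5, 0, 2, 3, 1], some 2),
   (34, [1, 2, 1, 3, 4, 5, 6, 7, 0, 2, 3, 4, 5, 1, 3, 4, 2, 3, 0, 2, 1, 3, 4, 5, 6, 5, 4, 3, 2, 1,
      3, 4, 0, 2, 3, 1], some 2),
   (35, [1, 2, 1, 3, 4, 5, 6, 7, 0, 2, 3, 4, 5, 6, 1, 3, 4, 2, 3, 0, 2, 1, 3, 4, 5, 4, 3, 2, 1, 3,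
      4, 0, 2, 3, 1], some 2),
   (39, [1, 2, 1, 3, 4, 5, 6, 7, 0, 2, 3, 4, 5, 1, 3, 4, 2, 3, 0, 2, 1, 3, 4, 5, 6, 5, 4, 3, 2, 1,
      3, 4, 5, 0, 2, 3, 4], some 2),
   (42, [1, 2, 1, 3, 4, 5, 6, 7, 0, 2, 3, 4, 5, 1, 3, 4, 2, 3, 0, 2, 1, 3, 4, 5, 6, 5, 4, 3, 2, 1,
      3, 4, 5, 0, 2, 3], some 2),
   (44, [1, 2, 1, 3, 4, 5, 6, 7, 0, 2, 3, 4, 5, 1, 3, 4, 2, 3, 0, 2, 1, 3, 4, 5, 6, 5, 4, 3, 2, 1,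
      3, 4, 0, 2, 3], some 2),
   (45, [1, 2, 1, 3, 4, 5, 6, 7, 0, 2, 3, 4, 5, 6, 1, 3, 4, 2, 3, 0, 2, 1, 3, 4, 5, 4, 3, 2, 1, 3,
      4, 0, 2, 3], some 2),
   (48, [1, 2, 1, 3, 4, 5, 6, 7, 0, 2, 3, 4, 5, 1, 3, 4, 2, 3, 0, 2, 1, 3, 4, 5, 6, 5, 4, 3, 2, 1,
      3, 4, 5, 0, 2], some 2),
   (50, [1, 2, 1, 3, 4, 5, 6, 7, 0, 2, 3, 4, 5, 1, 3, 4, 2, 3, 0, 2, 1, 3, 4, 5, 6, 5, 4, 3, 2, 1,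
      3, 4, 0, 2], some 2),
   (51, [1, 2, 1, 3, 4, 5, 6, 7, 0, 2, 3, 4, 5, 6, 1, 3, 4, 2, 3, 0, 2, 1, 3, 4, 5, 4, 3, 2, 1, 3,
      4, 0, 2], some 2),
   (53, [1, 2, 1, 3, 4, 5, 6, 7, 0, 2, 3, 4, 5, 1, 3, 4, 2, 3, 0, 2, 1, 3, 4, 5, 6, 5, 4, 3, 2, 1,
      3, 0, 2], some 2),
   (54, [1, 2, 1, 3, 4, 5, 6, 7, 0, 2, 3, 4, 5, 6, 1, 3, 4, 2, 3, 0, 2, 1, 3, 4, 5, 4, 3, 2, 1, 3,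
      0, 2], some 2),
   (55, [1, 2, 1, 3, 4, 5, 6, 7, 0, 2, 3, 4, 5, 6, 1, 3, 4, 5, 2, 3, 0, 2, 1, 3, 4, 3, 2, 1, 3, 0,
      2], some 2),
   (58, [1, 2, 1, 3, 4, 5, 6, 7, 0, 2, 3, 4, 5, 1, 3, 4, 2, 3, 0, 2, 1, 3, 4, 5, 6, 5, 4, 3, 2, 1,
      3, 4, 5, 0], some 2),
   (60, [1, 2, 1, 3, 4, 5, 6, 7, 0, 2, 3, 4, 5, 1, 3, 4, 2, 3, 0, 2, 1, 3, 4, 5, 6, 5, 4, 3, 2, 1,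
      3, 4, 0], some 2),
   (61, [1, 2, 1, 3, 4, 5, 6, 7, 0, 2, 3, 4, 5, 6, 1, 3, 4, 2, 3, 0, 2, 1, 3, 4, 5, 4, 3, 2, 1, 3,
      4, 0], some 2),
   (63, [1, 2, 1, 3, 4, 5, 6, 7, 0, 2, 3, 4, 5, 1, 3, 4, 2, 3, 0, 2, 1, 3, 4, 5, 6, 5, 4, 3, 2, 1,
      3, 0], some 2),
   (64, [1, 2, 1, 3, 4, 5, 6, 7, 0, 2, 3, 4, 5, 6, 1, 3, 4, 2, 3, 0, 2, 1, 3, 4, 5, 4, 3, 2, 1, 3,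
      0], some 2),
   (65, [1, 2, 1, 3, 4, 5, 6, 7, 0, 2, 3, 4, 5, 6, 1, 3, 4, 5, 2, 3, 0, 2, 1, 3, 4, 3, 2, 1, 3, 0], some 2),
   (67, [1, 2, 1, 3, 4, 5, 6, 7, 0, 2, 3, 4, 5, 1, 3, 4, 2, 3, 0, 2, 1, 3, 4, 5, 6, 5, 4, 3, 2, 1,
      0], some 2),
   (68, [1, 2, 1, 3, 4, 5, 6, 7, 0, 2, 3, 4, 5, 6, 1, 3, 4, 2, 3, 0, 2, 1, 3, 4, 5, 4, 3, 2, 1, 0], some 2),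
   (69, [1, 2, 1, 3, 4, 5, 6, 7, 0, 2, 3, 4, 5, 6, 1, 3, 4, 5, 2, 3, 0, 2, 1, 3, 4, 3, 2, 1, 0], some 2),
   (70, [1, 2, 1, 3, 4, 5, 6, 7, 0, 2, 3, 4, 5, 6, 1, 3, 4, 5, 2, 3, 4, 0, 2, 1, 3, 2, 1, 0], some 2),
   (72, [1, 2, 1, 3, 4, 5, 6, 7, 0, 2, 3, 4, 5, 1, 3, 4, 2, 3, 0, 2, 1, 3, 4, 5, 6, 5, 4, 3, 2, 0], some 2),
   (73, [1, 2, 1, 3, 4, 5, 6, 7, 0, 2, 3, 4, 5, 6, 1, 3, 4, 2, 3, 0, 2, 1, 3, 4, 5, 4, 3, 2, 0], some 2),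
   (74, [1, 2, 1, 3, 4, 5, 6, 7, 0, 2, 3, 4, 5, 6, 1, 3, 4, 5, 2, 3, 0, 2, 1, 3, 4, 3, 2, 0], some 2),
   (75, [1, 2, 1, 3, 4, 5, 6, 7, 0, 2, 3, 4, 5, 6, 1, 3, 4, 5, 2, 3, 4, 0, 2, 1, 3, 2, 0], some 2),
   (76, [1, 2, 1, 3, 4, 5, 6, 7, 0, 2, 3, 4, 5, 6, 1, 3, 4, 5, 2, 3, 4, 1, 3, 0, 2, 0], some 2),
   (77, [1, 2, 1, 3, 4, 5, 6, 7, 0, 2, 3, 4, 5, 6, 1, 3, 4, 5, 2, 3, 4, 1, 3, 2, 0], some 2),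
   (80, [1, 2, 1, 3, 4, 5, 6, 7, 0, 2, 3, 4, 5, 1, 3, 4, 2, 3, 0, 2, 1, 3, 4, 5, 6, 5, 4, 3, 2, 1,
      3, 4, 5], some 2),
   (82, [1, 2, 1, 3, 4, 5, 6, 7, 0, 2, 3, 4, 5, 1, 3, 4, 2, 3, 0, 2, 1, 3, 4, 5, 6, 5, 4, 3, 2, 1,
      3, 4], some 2),
   (83, [1, 2, 1, 3, 4, 5, 6, 7, 0, 2, 3, 4, 5, 6, 1, 3, 4, 2, 3, 0, 2, 1, 3, 4, 5, 4, 3, 2, 1, 3,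
      4], some 2),
   (85, [1, 2, 1, 3, 4, 5, 6, 7, 0, 2, 3, 4, 5, 1, 3, 4, 2, 3, 0, 2, 1, 3, 4, 5, 6, 5, 4, 3, 2, 1,
      3], some 2),
   (86, [1, 2, 1, 3, 4, 5, 6, 7, 0, 2, 3, 4, 5, 6, 1, 3, 4, 2, 3, 0, 2, 1, 3, 4, 5, 4, 3, 2, 1, 3], some 2),
   (87, [1, 2, 1, 3, 4, 5, 6, 7, 0, 2, 3, 4, 5, 6, 1, 3, 4, 5, 2, 3, 0, 2, 1, 3, 4, 3, 2, 1, 3], some 2),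
   (89, [1, 2, 1, 3, 4, 5, 6, 7, 0, 2, 3, 4, 5, 1, 3, 4, 2, 3, 0, 2, 1, 3, 4, 5, 6, 5, 4, 3, 2, 1], some 2),
   (90, [1, 2, 1, 3, 4, 5, 6, 7, 0, 2, 3, 4, 5, 6, 1, 3, 4, 2, 3, 0, 2, 1, 3, 4, 5, 4, 3, 2, 1], some 2),
   (91, [1, 2, 1, 3, 4, 5, 6, 7, 0, 2, 3, 4, 5, 6, 1, 3, 4, 5, 2, 3, 0, 2, 1, 3, 4, 3, 2, 1], some 2),
   (92, [1, 2, 1, 3, 4, 5, 6, 7, 0, 2, 3, 4, 5, 6, 1, 3, 4, 5, 2, 3, 4, 0, 2, 1, 3, 2, 1], some 2),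
   (94, [1, 2, 1, 3, 4, 5, 6, 7, 0, 2, 3, 4, 5, 1, 3, 4, 2, 3, 0, 2, 1, 3, 4, 5, 6, 5, 4, 3, 1], some 2),
   (95, [1, 2, 1, 3, 4, 5, 6, 7, 0, 2, 3, 4, 5, 6, 1, 3, 4, 2, 3, 0, 2, 1, 3, 4, 5, 4, 3, 1], some 2),
   (96, [1, 2, 1, 3, 4, 5, 6, 7, 0, 2, 3, 4, 5, 6, 1, 3, 4, 5, 2, 3, 0, 2, 1, 3, 4, 3, 1], some 2),
   (97, [1, 2, 1, 3, 4, 5, 6, 7, 0, 2, 3, 4, 5, 6, 1, 3, 4, 5, 2, 3, 4, 0, 2, 1, 3, 1], some 2),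
   (98, [1, 2, 1, 3, 4, 5, 6, 7, 0, 2, 3, 4, 5, 6, 1, 3, 4, 5, 2, 3, 4, 0, 2, 3, 1], some 2),
   (100, [1, 2, 1, 3, 4, 5, 6, 7, 0, 2, 3, 4, 5, 1, 3, 4, 2, 3, 0, 2, 1, 3, 4, 5, 6, 5, 4, 3, 2], some 2),
   (101, [1, 2, 1, 3, 4, 5, 6, 7, 0, 2, 3, 4, 5, 6, 1, 3, 4, 2, 3, 0, 2, 1, 3, 4, 5, 4, 3, 2], some 2),
   (102, [1, 2, 1, 3, 4, 5, 6, 7, 0, 2, 3, 4, 5, 6, 1, 3, 4, 5, 2, 3, 0, 2, 1, 3, 4, 3, 2], some 2),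
   (103, [1, 2, 1, 3, 4, 5, 6, 7, 0, 2, 3, 4, 5, 6, 1, 3, 4, 5, 2, 3, 4, 0, 2, 1, 3, 2], some 2),
   (104, [1, 2, 1, 3, 4, 5, 6, 7, 0, 2, 3, 4, 5, 6, 1, 3, 4, 5, 2, 3, 4, 1, 3, 0, 2], some 2),
   (106, [1, 2, 1, 3, 4, 5, 6, 7, 0, 2, 3, 4, 5, 1, 3, 4, 2, 3, 0, 2, 1, 3, 4, 5, 6, 5, 4, 3], some 2),
   (107, [1, 2, 1, 3, 4, 5, 6, 7, 0, 2, 3, 4, 5, 6, 1, 3, 4, 2, 3, 0, 2, 1, 3, 4, 5, 4, 3], some 2),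
   (108, [1, 2, 1, 3, 4, 5, 6, 7, 0, 2, 3, 4, 5, 6, 1, 3, 4, 5, 2, 3, 0, 2, 1, 3, 4, 3], some 2),
   (109, [1, 2, 1, 3, 4, 5, 6, 7, 0, 2, 3, 4, 5, 6, 1, 3, 4, 5, 2, 3, 4, 0, 2, 1, 3], some 2),
   (111, [1, 2, 1, 3, 4, 5, 6, 7, 0, 2, 3, 4, 5, 1, 3, 4, 2, 3, 0, 2, 1, 3, 4, 5, 6, 5, 4], some 2),
   (112, [1, 2, 1, 3, 4, 5, 6, 7, 0, 2, 3, 4, 5, 6, 1, 3, 4, 2, 3, 0, 2, 1, 3, 4, 5, 4], some 2),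
   (113, [1, 2, 1, 3, 4, 5, 6, 7, 0, 2, 3, 4, 5, 6, 1, 3, 4, 5, 2, 3, 0, 2, 1, 3, 4], some 2),
   (115, [1, 2, 1, 3, 4, 5, 6, 7, 0, 2, 3, 4, 5, 1, 3, 4, 2, 3, 0, 2, 1, 3, 4, 5, 6, 5], some 2),
   (116, [1, 2, 1, 3, 4, 5, 6, 7, 0, 2, 3, 4, 5, 6, 1, 3, 4, 2, 3, 0, 2, 1, 3, 4, 5], some 2),
   (118, [1, 2, 1, 3, 4, 5, 6, 7, 0, 2, 3, 4, 5, 1, 3, 4, 2, 3, 0, 2, 1, 3, 4, 5, 6], some 2),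
   (121, [1, 2, 1, 3, 4, 5, 6, 7, 0, 2, 3, 4, 5, 1, 3, 4, 2, 3, 0, 2, 1, 3, 4, 5], some 2),
   (123, [1, 2, 1, 3, 4, 5, 6, 7, 0, 2, 3, 4, 5, 6, 1, 3, 4, 2, 3, 0, 2, 1, 3, 4], some 2),
   (124, [1, 2, 1, 3, 4, 5, 6, 7, 0, 2, 3, 4, 5, 1, 3, 4, 2, 3, 0, 2, 1, 3, 4], some 2),
   (126, [1, 2, 1, 3, 4, 5, 6, 7, 0, 2, 3, 4, 5, 6, 1, 3, 4, 5, 2, 3, 0, 2, 1, 3], some 2),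
   (127, [1, 2, 1, 3, 4, 5, 6, 7, 0, 2, 3, 4, 5, 6, 1, 3, 4, 2, 3, 0, 2, 1, 3], some 2),
   (128, [1, 2, 1, 3, 4, 5, 6, 7, 0, 2, 3, 4, 5, 1, 3, 4, 2, 3, 0, 2, 1, 3], some 2),
   (130, [1, 2, 1, 3, 4, 5, 6, 7, 0, 2, 3, 4, 5, 6, 1, 3, 4, 5, 2, 3, 4, 0, 2, 1], some 2),
   (131, [1, 2, 1, 3, 4, 5, 6, 7, 0, 2, 3, 4, 5, 6, 1, 3, 4, 5, 2, 3, 0, 2, 1], some 2),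
   (132, [1, 2, 1, 3, 4, 5, 6, 7, 0, 2, 3, 4, 5, 6, 1, 3, 4, 2, 3, 0, 2, 1], some 2),
   (133, [1, 2, 1, 3, 4, 5, 6, 7, 0, 2, 3, 4, 5, 1, 3, 4, 2, 3, 0, 2, 1], some 2),
   (135, [1, 2, 1, 3, 4, 5, 6, 7, 0, 2, 3, 4, 5, 6, 1, 3, 4, 5, 2, 3, 4, 1, 3, 0], some 2),
   (136, [1, 2, 1, 3, 4, 5, 6, 7, 0, 2, 3, 4, 5, 6, 1, 3, 4, 5, 2, 3, 4, 1, 0], some 2),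
   (137, [1, 2, 1, 3, 4, 5, 6, 7, 0, 2, 3, 4, 5, 6, 1, 3, 4, 5, 2, 3, 1, 0], some 2),
   (138, [1, 2, 1, 3, 4, 5, 6, 7, 0, 2, 3, 4, 5, 6, 1, 3, 4, 2, 3, 1, 0], some 2),
   (139, [1, 2, 1, 3, 4, 5, 6, 7, 0, 2, 3, 4, 5, 1, 3, 4, 2, 3, 1, 0], some 2),
   (141, [1, 2, 1, 3, 4, 5, 6, 7, 0, 2, 3, 4, 5, 6, 1, 3, 4, 5, 2, 3, 4, 0, 2, 3], some 2),
   (142, [1, 2, 1, 3, 4, 5, 6, 7, 0, 2, 3, 4, 5, 6, 1, 3, 4, 5, 2, 3, 4, 0, 2], some 2),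
   (143, [1, 2, 1, 3, 4, 5, 6, 7, 0, 2, 3, 4, 5, 6, 1, 3, 4, 5, 2, 3, 0, 2], some 2),
   (144, [1, 2, 1, 3, 4, 5, 6, 7, 0, 2, 3, 4, 5, 6, 1, 3, 4, 2, 3, 0, 2], some 2),
   (145, [1, 2, 1, 3, 4, 5, 6, 7, 0, 2, 3, 4, 5, 1, 3, 4, 2, 3, 0, 2], some 2),
   (147, [1, 2, 1, 3, 4, 5, 6, 7, 0, 2, 3, 4, 5, 6, 1, 3, 4, 5, 2, 3, 4, 0], some 2),
   (148, [1, 2, 1, 3, 4, 5, 6, 7, 0, 2, 3, 4, 5, 6, 1, 3, 4, 5, 2, 3, 0], some 2),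
   (149, [1, 2, 1, 3, 4, 5, 6, 7, 0, 2, 3, 4, 5, 6, 1, 3, 4, 2, 3, 0], some 2),
   (150, [1, 2, 1, 3, 4, 5, 6, 7, 0, 2, 3, 4, 5, 1, 3, 4, 2, 3, 0], some 2),
   (152, [1, 2, 1, 3, 4, 5, 6, 7, 0, 2, 3, 4, 5, 6, 1, 3, 4, 5, 2, 0], some 2),
   (153, [1, 2, 1, 3, 4, 5, 6, 7, 0, 2, 3, 4, 5, 6, 1, 3, 4, 2, 0], some 2),
   (154, [1, 2, 1, 3, 4, 5, 6, 7, 0, 2, 3, 4, 5, 1, 3, 4, 2, 0], some 2),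
   (156, [1, 2, 1, 3, 4, 5, 6, 7, 0, 2, 3, 4, 5, 6, 1, 3, 2, 0], some 2),
   (157, [1, 2, 1, 3, 4, 5, 6, 7, 0, 2, 3, 4, 5, 1, 3, 2, 0], some 2),
   (159, [1, 2, 1, 3, 4, 5, 6, 7, 0, 2, 3, 4, 1, 3, 2, 0], some 2),
   (162, [1, 2, 1, 3, 4, 5, 6, 7, 0, 2, 3, 4, 5, 6, 1, 3, 4, 5, 2, 3, 4, 1, 3, 2], some 2),
   (163, [1, 2, 1, 3, 4, 5, 6, 7, 0, 2, 3, 4, 5, 6, 1, 3, 4, 5, 2, 3, 4, 1, 3], some 2),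
   (164, [1, 2, 1, 3, 4, 5, 6, 7, 0, 2, 3, 4, 5, 6, 1, 3, 4, 5, 2, 3, 4, 1], some 2),
   (165, [1, 2, 1, 3, 4, 5, 6, 7, 0, 2, 3, 4, 5, 6, 1, 3, 4, 5, 2, 3, 1], some 2),
   (166, [1, 2, 1, 3, 4, 5, 6, 7, 0, 2, 3, 4, 5, 6, 1, 3, 4, 2, 3, 1], some 2),
   (167, [1, 2, 1, 3, 4, 5, 6, 7, 0, 2, 3, 4, 5, 1, 3, 4, 2, 3, 1], some 2),
   (169, [1, 2, 1, 3, 4, 5, 6, 7, 0, 2, 3, 4, 5, 6, 1, 3, 4, 5, 2, 3, 4], some 2),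
   (170, [1, 2, 1, 3, 4, 5, 6, 7, 0, 2, 3, 4, 5, 6, 1, 3, 4, 5, 2, 3], some 2),
   (171, [1, 2, 1, 3, 4, 5, 6, 7, 0, 2, 3, 4, 5, 6, 1, 3, 4, 2, 3], some 2),
   (172, [1, 2, 1, 3, 4, 5, 6, 7, 0, 2, 3, 4, 5, 1, 3, 4, 2, 3], some 2),
   (174, [1, 2, 1, 3, 4, 5, 6, 7, 0, 2, 3, 4, 5, 6, 1, 3, 4, 5, 2], some 2),
   (175, [1, 2, 1, 3, 4, 5, 6, 7, 0, 2, 3, 4, 5, 6, 1, 3, 4, 2], some 2),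
   (176, [1, 2, 1, 3, 4, 5, 6, 7, 0, 2, 3, 4, 5, 1, 3, 4, 2], some 2),
   (178, [1, 2, 1, 3, 4, 5, 6, 7, 0, 2, 3, 4, 5, 6, 1, 3, 2], some 2),
   (179, [1, 2, 1, 3, 4, 5, 6, 7, 0, 2, 3, 4, 5, 1, 3, 2], some 2),
   (181, [1, 2, 1, 3, 4, 5, 6, 7, 0, 2, 3, 4, 1, 3, 2], some 2),
   (184, [1, 2, 1, 3, 4, 5, 6, 7, 0, 2, 3, 4, 5, 6, 1, 3, 4, 5], some 2),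
   (185, [1, 2, 1, 3, 4, 5, 6, 7, 0, 2, 3, 4, 5, 6, 1, 3, 4], some 2),
   (186, [1, 2, 1, 3, 4, 5, 6, 7, 0, 2, 3, 4, 5, 1, 3, 4], some 2),
   (188, [1, 2, 1, 3, 4, 5, 6, 7, 0, 2, 3, 4, 5, 6, 1, 3], some 2),
   (189, [1, 2, 1, 3, 4, 5, 6, 7, 0, 2, 3, 4, 5, 1, 3], some 2),
   (191, [1, 2, 1, 3, 4, 5, 6, 7, 0, 2, 3, 4, 1, 3], some 2),
   (194, [1, 2, 1, 3, 4, 5, 6, 7, 0, 2, 3, 4, 5, 6, 1], some 2),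
   (195, [1, 2, 1, 3, 4, 5, 6, 7, 0, 2, 3, 4, 5, 1], some 2),
   (197, [1, 2, 1, 3, 4, 5, 6, 7, 0, 2, 3, 4, 1], some 2),
   (200, [1, 2, 1, 3, 4, 5, 6, 7, 0, 2, 3, 1], some 2),
   (204, [1, 2, 1, 3, 4, 5, 6, 7, 0, 2, 3, 4, 5, 6], some 2),
   (205, [1, 2, 1, 3, 4, 5, 6, 7, 0, 2, 3, 4, 5], some 2),
   (207, [1, 2, 1, 3, 4, 5, 6, 7, 0, 2, 3, 4], some 2),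
   (210, [1, 2, 1, 3, 4, 5, 6, 7, 0, 2, 3], some 2),
   (214, [1, 2, 1, 3, 4, 5, 6, 7, 0, 2], some 2),
   (219, [1, 2, 1, 3, 4, 5, 6, 7, 0], some 2),
   (226, [1, 2, 1, 3, 4, 5, 6, 7], some 2)]

/-- The steps from representative 2. -/
def steps2 : List (ℕ × List ℕ × Option ℕ) :=
  [(78, [6, 0, 2, 3, 4, 5, 1, 3, 4, 2, 3, 0, 2, 1, 3, 4, 5, 6, 7, 6, 5, 4, 3, 2, 1, 3, 4, 5, 6], some 3),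
   (79, [6, 0, 2, 3, 4, 5, 1, 3, 4, 2, 3, 0, 2, 1, 3, 4, 5, 6, 7, 6, 5, 4, 3, 2, 1, 3, 4, 5], some 3),
   (80, [6, 7, 0, 2, 3, 4, 5, 1, 3, 4, 2, 3, 0, 2, 1, 3, 4, 5, 6, 5, 4, 3, 2, 1, 3, 4, 5], some 3),
   (81, [6, 0, 2, 3, 4, 5, 1, 3, 4, 2, 3, 0, 2, 1, 3, 4, 5, 6, 7, 6, 5, 4, 3, 2, 1, 3, 4], some 3),
   (82, [6, 7, 0, 2, 3, 4, 5, 1, 3, 4, 2, 3, 0, 2, 1, 3, 4, 5, 6, 5, 4, 3, 2, 1, 3, 4], some 3),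
   (83, [6, 7, 0, 2, 3, 4, 5, 6, 1, 3, 4, 2, 3, 0, 2, 1, 3, 4, 5, 4, 3, 2, 1, 3, 4], some 3),
   (84, [6, 0, 2, 3, 4, 5, 1, 3, 4, 2, 3, 0, 2, 1, 3, 4, 5, 6, 7, 6, 5, 4, 3, 2, 1, 3], some 3),
   (85, [6, 7, 0, 2, 3, 4, 5, 1, 3, 4, 2, 3, 0, 2, 1, 3, 4, 5, 6, 5, 4, 3, 2, 1, 3], some 3),
   (86, [6, 7, 0, 2, 3, 4, 5, 6, 1, 3, 4, 2, 3, 0, 2, 1, 3, 4, 5, 4, 3, 2, 1, 3], some 3),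
   (87, [6, 7, 0, 2, 3, 4, 5, 6, 1, 3, 4, 5, 2, 3, 0, 2, 1, 3, 4, 3, 2, 1, 3], some 3),
   (88, [6, 0, 2, 3, 4, 5, 1, 3, 4, 2, 3, 0, 2, 1, 3, 4, 5, 6, 7, 6, 5, 4, 3, 2, 1], some 3),
   (89, [6, 7, 0, 2, 3, 4, 5, 1, 3, 4, 2, 3, 0, 2, 1, 3, 4, 5, 6, 5, 4, 3, 2, 1], some 3),
   (90, [6, 7, 0, 2, 3, 4, 5, 6, 1, 3, 4, 2, 3, 0, 2, 1, 3, 4, 5, 4, 3, 2, 1], some 3),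
   (91, [6, 7, 0, 2, 3, 4, 5, 6, 1, 3, 4, 5, 2, 3, 0, 2, 1, 3, 4, 3, 2, 1], some 3),
   (92, [6, 7, 0, 2, 3, 4, 5, 6, 1, 3, 4, 5, 2, 3, 4, 0, 2, 1, 3, 2, 1], some 3),
   (105, [5, 4, 3, 1, 2, 3, 4, 5, 6, 7, 4, 1, 7, 6, 5, 4, 3, 2, 1, 3, 4, 5, 6, 0, 2, 3, 4, 5, 1, 3,
      4, 2, 3, 0, 2, 1, 3, 4, 5, 6, 7, 6, 5, 4, 3], some 3),
   (106, [5, 4, 3, 1, 2, 3, 4, 5, 6, 7, 4, 1, 7, 6, 5, 4, 3, 2, 1, 3, 4, 5, 6, 7, 0, 2, 3, 4, 5, 1,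
      3, 4, 2, 3, 0, 2, 1, 3, 4, 5, 6, 5, 4, 3], some 3),
   (107, [5, 4, 3, 1, 2, 3, 4, 5, 6, 7, 4, 1, 7, 6, 5, 4, 3, 2, 1, 3, 4, 5, 6, 7, 0, 2, 3, 4, 5, 6,
      1, 3, 4, 2, 3, 0, 2, 1, 3, 4, 5, 4, 3], some 3),
   (108, [5, 4, 3, 1, 2, 3, 4, 5, 6, 7, 4, 1, 7, 6, 5, 4, 3, 2, 1, 3, 4, 5, 6, 7, 0, 2, 3, 4, 5, 6,
      1, 3, 4, 5, 2, 3, 0, 2, 1, 3, 4, 3], some 3),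
   (109, [5, 4, 3, 1, 2, 3, 4, 5, 6, 7, 4, 1, 7, 6, 5, 4, 3, 2, 1, 3, 4, 5, 6, 7, 0, 2, 3, 4, 5, 6,
      1, 3, 4, 5, 2, 3, 4, 0, 2, 1, 3], some 3),
   (110, [5, 4, 3, 1, 2, 3, 4, 5, 6, 7, 4, 1, 7, 6, 5, 4, 3, 2, 1, 3, 4, 5, 6, 0, 2, 3, 4, 5, 1, 3,
      4, 2, 3, 0, 2, 1, 3, 4, 5, 6, 7, 6, 5, 4], some 3),
   (111, [5, 4, 3, 1, 2, 3, 4, 5, 6, 7, 4, 1, 7, 6, 5, 4, 3, 2, 1, 3, 4, 5, 6, 7, 0, 2, 3, 4, 5, 1,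
      3, 4, 2, 3, 0, 2, 1, 3, 4, 5, 6, 5, 4], some 3),
   (112, [5, 4, 3, 1, 2, 3, 4, 5, 6, 7, 4, 1, 7, 6, 5, 4, 3, 2, 1, 3, 4, 5, 6, 7, 0, 2, 3, 4, 5, 6,
      1, 3, 4, 2, 3, 0, 2, 1, 3, 4, 5, 4], some 3),
   (113, [5, 4, 3, 1, 2, 3, 4, 5, 6, 7, 4, 1, 7, 6, 5, 4, 3, 2, 1, 3, 4, 5, 6, 7, 0, 2, 3, 4, 5, 6,
      1, 3, 4, 5, 2, 3, 0, 2, 1, 3, 4], some 3),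
   (114, [5, 4, 3, 1, 2, 3, 4, 5, 6, 7, 4, 1, 7, 6, 5, 4, 3, 2, 1, 3, 4, 5, 6, 0, 2, 3, 4, 5, 1, 3,
      4, 2, 3, 0, 2, 1, 3, 4, 5, 6, 7, 6, 5], some 3),
   (115, [5, 4, 3, 1, 2, 3, 4, 5, 6, 7, 4, 1, 7, 6, 5, 4, 3, 2, 1, 3, 4, 5, 6, 7, 0, 2, 3, 4, 5, 1,
      3, 4, 2, 3, 0, 2, 1, 3, 4, 5, 6, 5], some 3),
   (116, [5, 4, 3, 1, 2, 3, 4, 5, 6, 7, 4, 1, 7, 6, 5, 4, 3, 2, 1, 3, 4, 5, 6, 7, 0, 2, 3, 4, 5, 6,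
      1, 3, 4, 2, 3, 0, 2, 1, 3, 4, 5], some 3),
   (117, [5, 4, 3, 1, 2, 3, 4, 5, 6, 7, 4, 1, 7, 6, 5, 4, 3, 2, 1, 3, 4, 5, 6, 0, 2, 3, 4, 5, 1, 3,
      4, 2, 3, 0, 2, 1, 3, 4, 5, 6, 7, 6], some 3),
   (118, [5, 4, 3, 1, 2, 3, 4, 5, 6, 7, 4, 1, 7, 6, 5, 4, 3, 2, 1, 3, 4, 5, 6, 7, 0, 2, 3, 4, 5, 1,
      3, 4, 2, 3, 0, 2, 1, 3, 4, 5, 6], some 3),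
   (119, [5, 4, 3, 1, 2, 3, 4, 5, 6, 7, 4, 1, 7, 6, 5, 4, 3, 2, 1, 3, 4, 5, 6, 0, 2, 3, 4, 5, 1, 3,
      4, 2, 3, 0, 2, 1, 3, 4, 5, 6, 7], some 3),
   (120, [5, 4, 3, 1, 2, 3, 4, 5, 6, 7, 4, 1, 7, 6, 5, 4, 3, 2, 1, 3, 4, 5, 6, 0, 2, 3, 4, 5, 1, 3,
      4, 2, 3, 0, 2, 1, 3, 4, 5, 6], some 3),
   (121, [5, 4, 3, 1, 2, 3, 4, 5, 6, 7, 4, 1, 7, 6, 5, 4, 3, 2, 1, 3, 4, 5, 6, 7, 0, 2, 3, 4, 5, 1,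
      3, 4, 2, 3, 0, 2, 1, 3, 4, 5], some 3),
   (122, [5, 4, 3, 1, 2, 3, 4, 5, 6, 7, 4, 1, 7, 6, 5, 4, 3, 2, 1, 3, 4, 5, 6, 0, 2, 3, 4, 5, 1, 3,
      4, 2, 3, 0, 2, 1, 3, 4, 5], some 3),
   (123, [5, 4, 3, 1, 2, 3, 4, 5, 6, 7, 4, 1, 7, 6, 5, 4, 3, 2, 1, 3, 4, 5, 6, 7, 0, 2, 3, 4, 5, 6,
      1, 3, 4, 2, 3, 0, 2, 1, 3, 4], some 3),
   (124, [5, 4, 3, 1, 2, 3, 4, 5, 6, 7, 4, 1, 7, 6, 5, 4, 3, 2, 1, 3, 4, 5, 6, 7, 0, 2, 3, 4, 5, 1,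
      3, 4, 2, 3, 0, 2, 1, 3, 4], some 3),
   (125, [5, 4, 3, 1, 2, 3, 4, 5, 6, 7, 4, 1, 7, 6, 5, 4, 3, 2, 1, 3, 4, 5, 6, 0, 2, 3, 4, 5, 1, 3,
      4, 2, 3, 0, 2, 1, 3, 4], some 3),
   (126, [5, 4, 3, 1, 2, 3, 4, 5, 6, 7, 4, 1, 7, 6, 5, 4, 3, 2, 1, 3, 4, 5, 6, 7, 0, 2, 3, 4, 5, 6,
      1, 3, 4, 5, 2, 3, 0, 2, 1, 3], some 3),
   (127, [5, 4, 3, 1, 2, 3, 4, 5, 6, 7, 4, 1, 7, 6, 5, 4, 3, 2, 1, 3, 4, 5, 6, 7, 0, 2, 3, 4, 5, 6,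
      1, 3, 4, 2, 3, 0, 2, 1, 3], some 3),
   (128, [5, 4, 3, 1, 2, 3, 4, 5, 6, 7, 4, 1, 7, 6, 5, 4, 3, 2, 1, 3, 4, 5, 6, 7, 0, 2, 3, 4, 5, 1,
      3, 4, 2, 3, 0, 2, 1, 3], some 3),
   (129, [5, 4, 3, 1, 2, 3, 4, 5, 6, 7, 4, 1, 7, 6, 5, 4, 3, 2, 1, 3, 4, 5, 6, 0, 2, 3, 4, 5, 1, 3,
      4, 2, 3, 0, 2, 1, 3], some 3),
   (130, [5, 4, 3, 1, 2, 3, 4, 5, 6, 7, 4, 1, 7, 6, 5, 4, 3, 2, 1, 3, 4, 5, 6, 7, 0, 2, 3, 4, 5, 6,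
      1, 3, 4, 5, 2, 3, 4, 0, 2, 1], some 3),
   (131, [5, 4, 3, 1, 2, 3, 4, 5, 6, 7, 4, 1, 7, 6, 5, 4, 3, 2, 1, 3, 4, 5, 6, 7, 0, 2, 3, 4, 5, 6,
      1, 3, 4, 5, 2, 3, 0, 2, 1], some 3),
   (132, [5, 4, 3, 1, 2, 3, 4, 5, 6, 7, 4, 1, 7, 6, 5, 4, 3, 2, 1, 3, 4, 5, 6, 7, 0, 2, 3, 4, 5, 6,
      1, 3, 4, 2, 3, 0, 2, 1], some 3),
   (133, [5, 4, 3, 1, 2, 3, 4, 5, 6, 7, 4, 1, 7, 6, 5, 4, 3, 2, 1, 3, 4, 5, 6, 7, 0, 2, 3, 4, 5, 1,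
      3, 4, 2, 3, 0, 2, 1], some 3),
   (134, [5, 4, 3, 1, 2, 3, 4, 5, 6, 7, 4, 1, 7, 6, 5, 4, 3, 2, 1, 3, 4, 5, 6, 0, 2, 3, 4, 5, 1, 3,
      4, 2, 3, 0, 2, 1], some 3),
   (147, [6, 7, 0, 2, 3, 4, 5, 6, 1, 3, 4, 5, 2, 3, 4, 0], some 3),
   (148, [6, 7, 0, 2, 3, 4, 5, 6, 1, 3, 4, 5, 2, 3, 0], some 3),
   (149, [6, 7, 0, 2, 3, 4, 5, 6, 1, 3, 4, 2, 3, 0], some 3),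
   (150, [6, 7, 0, 2, 3, 4, 5, 1, 3, 4, 2, 3, 0], some 3),
   (151, [6, 0, 2, 3, 4, 5, 1, 3, 4, 2, 3, 0], some 3),
   (152, [6, 7, 0, 2, 3, 4, 5, 6, 1, 3, 4, 5, 2, 0], some 3),
   (153, [6, 7, 0, 2, 3, 4, 5, 6, 1, 3, 4, 2, 0], some 3),
   (154, [6, 7, 0, 2, 3, 4, 5, 1, 3, 4, 2, 0], some 3),
   (155, [6, 0, 2, 3, 4, 5, 1, 3, 4, 2, 0], some 3),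
   (156, [6, 7, 0, 2, 3, 4, 5, 6, 1, 3, 2, 0], some 3),
   (157, [6, 7, 0, 2, 3, 4, 5, 1, 3, 2, 0], some 3),
   (158, [6, 0, 2, 3, 4, 5, 1, 3, 2, 0], some 3),
   (159, [6, 7, 0, 2, 3, 4, 1, 3, 2, 0], some 3),
   (160, [6, 0, 2, 3, 4, 1, 3, 2, 0], some 3),
   (161, [0, 2, 3, 4, 1, 3, 2, 0], some 3)]

/-- The steps from representative 3. -/
def steps3 : List (ℕ × List ℕ × Option ℕ) :=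
  [(35, [7, 6, 5, 4, 3, 1, 2, 3, 4, 5, 6, 7, 6, 5, 4, 3, 2, 0, 4, 6, 0, 2, 3, 4, 5, 6, 7, 6, 5, 4,
      3, 2, 1, 3, 4, 5, 6, 7, 0, 2, 3, 4, 5, 6, 1, 3, 4, 2, 3, 0, 2, 1, 3, 4, 5, 4, 3, 2,
      1, 3, 4, 0, 2, 3, 1], some 4),
   (45, [7, 6, 5, 4, 3, 1, 2, 3, 4, 5, 6, 7, 6, 5, 4, 3, 2, 0, 4, 6, 0, 2, 3, 4, 5, 6, 7, 6, 5, 4,
      3, 2, 1, 3, 4, 5, 6, 7, 0, 2, 3, 4, 5, 6, 1, 3, 4, 2, 3, 0, 2, 1, 3, 4, 5, 4, 3, 2,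
      1, 3, 4, 0, 2, 3], some 4),
   (51, [7, 6, 5, 4, 3, 1, 2, 3, 4, 5, 6, 7, 6, 5, 4, 3, 2, 0, 4, 6, 0, 2, 3, 4, 5, 6, 7, 6, 5, 4,
      3, 2, 1, 3, 4, 5, 6, 7, 0, 2, 3, 4, 5, 6, 1, 3, 4, 2, 3, 0, 2, 1, 3, 4, 5, 4, 3, 2,
      1, 3, 4, 0, 2], some 4),
   (64, [0, 2, 3, 4, 5, 6, 1, 3, 4, 2, 3, 0, 2, 1, 3, 4, 5, 4, 3, 2, 1, 3, 0], some 4),
   (68, [0, 2, 3, 4, 5, 6, 1, 3, 4, 2, 3, 0, 2, 1, 3, 4, 5, 4, 3, 2, 1, 0], some 4),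
   (73, [0, 2, 3, 4, 5, 6, 1, 3, 4, 2, 3, 0, 2, 1, 3, 4, 5, 4, 3, 2, 0], some 4),
   (87, [7, 6, 5, 4, 3, 1, 2, 3, 4, 5, 6, 7, 6, 5, 4, 3, 2, 0, 4, 6, 0, 2, 3, 4, 1, 3, 7, 6, 5, 4,
      3, 2, 1, 3, 4, 5, 6, 7, 0, 2, 3, 4, 5, 6, 1, 3, 4, 5, 2, 3, 0, 2, 1, 3, 4, 3, 2, 1,
      3], some 4),
   (91, [7, 6, 5, 4, 3, 1, 2, 3, 4, 5, 6, 7, 6, 5, 4, 3, 2, 0, 4, 6, 0, 2, 3, 4, 1, 3, 7, 6, 5, 4,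
      3, 2, 1, 3, 4, 5, 6, 7, 0, 2, 3, 4, 5, 6, 1, 3, 4, 5, 2, 3, 0, 2, 1, 3, 4, 3, 2, 1], some 4),
   (97, [7, 6, 5, 4, 3, 1, 2, 3, 4, 5, 6, 7, 6, 5, 1, 3, 7, 6, 5, 4, 3, 2, 1, 3, 4, 5, 6, 7, 0, 2,
      3, 4, 5, 6, 1, 3, 4, 5, 2, 3, 4, 0, 2, 1, 3, 1], some 4),
   (98, [7, 6, 5, 4, 3, 1, 2, 3, 4, 5, 6, 7, 6, 5, 1, 3, 7, 6, 5, 4, 3, 2, 1, 3, 4, 5, 6, 7, 0, 2,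
      3, 4, 5, 6, 1, 3, 4, 5, 2, 3, 4, 0, 2, 3, 1], some 4),
   (102, [7, 6, 5, 4, 3, 1, 2, 3, 4, 5, 6, 7, 6, 5, 4, 3, 2, 0, 4, 6, 0, 2, 3, 4, 1, 3, 7, 6, 5, 4,
      3, 2, 1, 3, 4, 5, 6, 7, 0, 2, 3, 4, 5, 6, 1, 3, 4, 5, 2, 3, 0, 2, 1, 3, 4, 3, 2], some 4),
   (109, [7, 6, 5, 4, 3, 1, 2, 3, 4, 5, 6, 7, 6, 5, 1, 3, 7, 6, 5, 4, 3, 2, 1, 3, 4, 5, 6, 7, 0, 2,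
      3, 4, 5, 6, 1, 3, 4, 5, 2, 3, 4, 0, 2, 1, 3], some 4),
   (119, [5, 4, 3, 1, 2, 0, 3, 2, 4, 3, 1, 5, 4, 3, 2, 0, 7, 6, 5, 4, 3, 1, 2, 3, 4, 5, 6, 7, 0, 3,
      1, 4, 3, 2, 5, 4, 3, 1, 6, 5, 4, 3, 2, 0, 5, 4, 3, 1, 0, 2, 3, 4, 1, 3, 2, 0, 7, 6,
      5, 4, 3, 2, 1, 3, 4, 5, 6, 0, 2, 3, 4, 5, 1, 3, 4, 2, 3, 0, 2, 1, 3, 4, 5, 6, 7], none),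
   (120, [5, 4, 3, 1, 2, 0, 3, 2, 4, 3, 1, 5, 4, 3, 2, 0, 7, 6, 5, 4, 3, 1, 2, 3, 4, 5, 6, 7, 0, 3,
      1, 4, 3, 2, 5, 4, 3, 1, 6, 5, 4, 3, 2, 0, 5, 4, 3, 1, 0, 2, 3, 4, 1, 3, 2, 0, 7, 6,
      5, 4, 3, 2, 1, 3, 4, 5, 6, 0, 2, 3, 4, 5, 1, 3, 4, 2, 3, 0, 2, 1, 3, 4, 5, 6], none),
   (130, [7, 6, 5, 4, 3, 1, 2, 3, 4, 5, 6, 7, 6, 5, 1, 3, 7, 6, 5, 4, 3, 2, 1, 3, 4, 5, 6, 7, 0, 2,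
      3, 4, 5, 6, 1, 3, 4, 5, 2, 3, 4, 0, 2, 1], some 4),
   (137, [7, 6, 5, 4, 3, 1, 2, 3, 4, 5, 6, 7, 6, 5, 4, 3, 2, 0, 4, 6, 0, 2, 3, 4, 1, 3, 7, 6, 5, 4,
      3, 2, 1, 3, 4, 5, 6, 7, 0, 2, 3, 4, 5, 6, 1, 3, 4, 5, 2, 3, 1, 0], some 4),
   (141, [7, 6, 5, 4, 3, 1, 2, 3, 4, 5, 6, 7, 6, 5, 1, 3, 7, 6, 5, 4, 3, 2, 1, 3, 4, 5, 6, 7, 0, 2,
      3, 4, 5, 6, 1, 3, 4, 5, 2, 3, 4, 0, 2, 3], some 4),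
   (142, [7, 6, 5, 4, 3, 1, 2, 3, 4, 5, 6, 7, 6, 5, 1, 3, 7, 6, 5, 4, 3, 2, 1, 3, 4, 5, 6, 7, 0, 2,
      3, 4, 5, 6, 1, 3, 4, 5, 2, 3, 4, 0, 2], some 4),
   (148, [7, 6, 5, 4, 3, 1, 2, 3, 4, 5, 6, 7, 6, 5, 4, 3, 2, 0, 4, 6, 0, 2, 3, 4, 1, 3, 7, 6, 5, 4,
      3, 2, 1, 3, 4, 5, 6, 7, 0, 2, 3, 4, 5, 6, 1, 3, 4, 5, 2, 3, 0], some 4),
   (152, [7, 6, 5, 4, 3, 1, 2, 3, 4, 5, 6, 7, 6, 5, 4, 3, 2, 0, 4, 6, 0, 2, 3, 4, 1, 3, 7, 6, 5, 4,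
      3, 2, 1, 3, 4, 5, 6, 7, 0, 2, 3, 4, 5, 6, 1, 3, 4, 5, 2, 0], some 4),
   (166, [0, 2, 3, 4, 5, 6, 1, 3, 4, 2, 3, 1], some 4),
   (171, [0, 2, 3, 4, 5, 6, 1, 3, 4, 2, 3], some 4),
   (175, [0, 2, 3, 4, 5, 6, 1, 3, 4, 2], some 4),
   (188, [7, 6, 5, 4, 3, 1, 2, 3, 4, 5, 6, 7, 6, 5, 4, 3, 2, 0, 4, 6, 0, 2, 3, 4, 5, 6, 7, 6, 5, 4,
      3, 2, 1, 3, 4, 5, 6, 7, 0, 2, 3, 4, 5, 6, 1, 3], some 4),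
   (194, [7, 6, 5, 4, 3, 1, 2, 3, 4, 5, 6, 7, 6, 5, 4, 3, 2, 0, 4, 6, 0, 2, 3, 4, 5, 6, 7, 6, 5, 4,
      3, 2, 1, 3, 4, 5, 6, 7, 0, 2, 3, 4, 5, 6, 1], some 4),
   (204, [7, 6, 5, 4, 3, 1, 2, 3, 4, 5, 6, 7, 6, 5, 4, 3, 2, 0, 4, 6, 0, 2, 3, 4, 5, 6, 7, 6, 5, 4,
      3, 2, 1, 3, 4, 5, 6, 7, 0, 2, 3, 4, 5, 6], some 4)]

/-- The steps from representative 4. -/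
def steps4 : List (ℕ × List ℕ × Option ℕ) :=
  [(71, [5, 4, 3, 1, 2, 0, 3, 2, 4, 3, 1, 5, 4, 3, 2, 0, 7, 6, 5, 4, 3, 1, 2, 3, 4, 5, 6, 7, 0, 3,
      1, 4, 3, 2, 5, 4, 3, 1, 6, 5, 4, 3, 2, 0, 5, 4, 3, 1, 2, 1, 0, 2, 3, 4, 1, 3, 2, 0,
      7, 6, 5, 4, 3, 2, 1, 3, 4, 5, 6, 0, 2, 3, 4, 5, 1, 3, 4, 2, 3, 0, 2, 1, 3, 4, 5, 6,
      7, 6, 5, 4, 3, 2, 0], none),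
   (100, [5, 4, 3, 1, 2, 0, 3, 2, 4, 3, 1, 5, 4, 3, 2, 0, 7, 6, 5, 4, 3, 1, 2, 3, 4, 5, 6, 7, 0, 3,
      1, 4, 3, 2, 5, 4, 3, 1, 6, 5, 4, 3, 2, 0, 5, 4, 3, 1, 2, 1, 0, 2, 3, 4, 1, 3, 2, 0,
      7, 6, 5, 4, 3, 2, 1, 3, 4, 5, 6, 7, 0, 2, 3, 4, 5, 1, 3, 4, 2, 3, 0, 2, 1, 3, 4, 5,
      6, 5, 4, 3, 2], none),
   (107, [5, 4, 3, 1, 2, 0, 3, 2, 4, 3, 1, 5, 4, 3, 2, 0, 7, 6, 5, 4, 3, 1, 2, 3, 4, 5, 6, 7, 0, 3,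
      1, 4, 3, 2, 5, 4, 3, 1, 6, 5, 4, 3, 2, 0, 5, 4, 3, 1, 0, 2, 3, 4, 1, 3, 2, 0, 7, 6,
      5, 4, 3, 2, 1, 3, 4, 5, 6, 7, 0, 2, 3, 4, 5, 6, 1, 3, 4, 2, 3, 0, 2, 1, 3, 4, 5, 4,
      3], none),
   (113, [5, 4, 3, 1, 2, 0, 3, 2, 4, 3, 1, 5, 4, 3, 2, 0, 7, 6, 5, 4, 3, 1, 2, 3, 4, 5, 6, 7, 0, 3,
      1, 4, 3, 2, 5, 4, 3, 1, 6, 5, 4, 3, 2, 0, 5, 4, 3, 1, 0, 2, 3, 4, 1, 3, 2, 0, 7, 6,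
      5, 4, 3, 2, 1, 3, 4, 5, 6, 7, 0, 2, 3, 4, 5, 6, 1, 3, 4, 5, 2, 3, 0, 2, 1, 3, 4], none),
   (126, [5, 4, 3, 1, 2, 0, 3, 2, 4, 3, 1, 5, 4, 3, 2, 0, 7, 6, 5, 4, 3, 1, 2, 3, 4, 5, 6, 7, 0, 3,
      1, 4, 3, 2, 5, 4, 3, 1, 6, 5, 4, 3, 2, 0, 5, 4, 3, 1, 0, 2, 3, 4, 1, 3, 2, 0, 7, 6,
      5, 4, 3, 2, 1, 3, 4, 5, 6, 7, 0, 2, 3, 4, 5, 6, 1, 3, 4, 5, 2, 3, 0, 2, 1, 3], none),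
   (132, [5, 4, 3, 1, 2, 0, 3, 2, 4, 3, 1, 5, 4, 3, 2, 0, 7, 6, 5, 4, 3, 1, 2, 3, 4, 5, 6, 7, 0, 3,
      1, 4, 3, 2, 5, 4, 3, 1, 6, 5, 4, 3, 2, 0, 5, 4, 3, 1, 0, 2, 3, 4, 1, 3, 2, 0, 7, 6,
      5, 4, 3, 2, 1, 3, 4, 5, 6, 7, 0, 2, 3, 4, 5, 6, 1, 3, 4, 2, 3, 0, 2, 1], none),
   (139, [5, 4, 3, 1, 2, 0, 3, 2, 4, 3, 1, 5, 4, 3, 2, 0, 7, 6, 5, 4, 3, 1, 2, 3, 4, 5, 6, 7, 0, 3,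
      1, 4, 3, 2, 5, 4, 3, 1, 6, 5, 4, 3, 2, 0, 5, 4, 3, 1, 2, 1, 0, 2, 3, 4, 1, 3, 2, 0,
      7, 6, 5, 4, 3, 2, 1, 3, 4, 5, 6, 7, 0, 2, 3, 4, 5, 1, 3, 4, 2, 3, 1, 0], none),
   (168, [5, 4, 3, 1, 2, 0, 3, 2, 4, 3, 1, 5, 4, 3, 2, 0, 7, 6, 5, 4, 3, 1, 2, 3, 4, 5, 6, 7, 0, 3,
      1, 4, 3, 2, 5, 4, 3, 1, 6, 5, 4, 3, 2, 0, 5, 4, 3, 1, 2, 1, 0, 2, 3, 4, 1, 3, 2, 0,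
      7, 6, 5, 4, 3, 2, 1, 3, 4, 5, 6, 0, 2, 3, 4, 5, 1, 3, 4, 2, 3, 1], none)]

/-- All steps. -/
def steps : List (List (ℕ × List ℕ × Option ℕ)) :=
  [steps0, steps1, steps2, steps3, steps4]

theorem walk_ok : walkOk chevE8 (Chevalley.E8.tab.w) reps frameRoots steps = true := by
  decide +kernel

theorem frame_ok : frameB chevE8 frameRoots = true := by decide +kernel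

theorem span_ok : spanB chevE8 (Chevalley.E8.tab.cf chevE8) frameRoots = true := by
  decide +kernel

end Cfsg.Agent.H56.Inv.E8
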